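import Mathlib
import Cfsg.Agent.GTwoThree.Core
import Cfsg.Agent.GTwoThree.Model
import Cfsg.Agent.S1055
import Cfsg.Agent.S1059
import Cfsg.Agent.Prune
set_option linter.all false
prune_inst 0x7f00000000000000000000000000000000000000000000000000000000000000000000000000000000000000000000000000000000000000000000000000000000000000000000000000000000000000003fffffffffffffffffffffffffffbeffbdffffffff
open scoped Cfsg.Agent.FastGrp

/-! A subgroup of order at most `|G₂(3)|` containing six elements satisfying the relations of `G₂(3)` is `G₂(3)`. -/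

set_option autoImplicit false

namespace Cfsg.Agent.H845.GTwoIso

open Cfsg Cfsg.Agent.GTwoThree

variable {J₁ J₂ : Type*} [Group J₁] [Group J₂] {a b c d r t : J₁} {a' b' c' d' r' t' : J₂}

/-- a surjection onto a group with core-free normalizer of `⟨a'⟩` -/
theorem exists_surj (h : Rel a b c d r t) (h' : Rel a' b' c' d' r' t') (ha : a ≠ 1) (ha' : a' ≠ 1)
    (hgen : Subgroup.closure {a, b, c, d, r, t} = ⊤)
    (hgen' : Subgroup.closure {a', b', c', d', r', t'} = ⊤)
    (core' : ∀ y : J₂, (∀ w : J₂, w⁻¹ * y * w ∈ NA a') → y = 1) :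
    ∃ f : J₁ →* J₂, Function.Surjective f := by
  set Γ := pairs a b c d r t a' b' c' d' r' t' with hΓ
  have b1 : Function.Bijective ((MonoidHom.fst J₁ J₂).comp Γ.subtype) := by
    constructor
    · rw [injective_iff_map_eq_one]
      rintro ⟨x, hx⟩ h1
      have h2 : x.1 = 1 := h1
      have h3 := pairs_ker h h' ha ha' hgen' core' hx h2
      exact Subtype.ext (Prod.ext h2 h3)
    · intro y
      obtain ⟨x, hx, e⟩ := pairs_fst_surj (a' := a') (b' := b') (c' := c') (d' := d') (r' := r') (t' := t') h hgen y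
      exact ⟨⟨x, hx⟩, e⟩
  have b2 : Function.Surjective ((MonoidHom.snd J₁ J₂).comp Γ.subtype) := by
    intro y
    obtain ⟨x, hx, e⟩ := pairs_fst_surj (a' := a) (b' := b) (c' := c) (d' := d) (r' := r) (t' := t) h' hgen' y
    exact ⟨⟨x.swap, pairs_swap hx⟩, e⟩
  refine ⟨((MonoidHom.snd J₁ J₂).comp Γ.subtype).comp (MulEquiv.ofBijective _ b1).symm.toMonoidHom, ?_⟩
  exact b2.comp (MulEquiv.ofBijective _ b1).symm.surjective

theorem card_chev : Nat.card ↥(Lie.chevG2.group (ZMod 3)) = 4245696 := by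
  rw [Cfsg.Agent.S1059.result (F := ZMod 3) (q := 3) (ZMod.card 3)]
  norm_num

theorem isSimple_chev : IsSimpleGroup ↥(Lie.chevG2.group (ZMod 3)) :=
  (Cfsg.Agent.S1055.result ⟨2, by decide, by decide⟩).1

/-- **`K ≅ G₂(3)`** -/
theorem iso_of_card_le {G : Type*} [Group G] {a b c d r t : G} (h : Rel a b c d r t) (ha : a ≠ 1)
    (K : Subgroup G) [Finite ↥K] (ma : a ∈ K) (mb : b ∈ K) (mc : c ∈ K) (md : d ∈ K) (mr : r ∈ K)
    (mt : t ∈ K) (hK : Nat.card ↥K ≤ 4245696) :
    K = Subgroup.closure {a, b, c, d, r, t} ∧ Nat.card ↥K = 4245696 ∧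
      Nonempty (↥K ≃* ↥(Lie.chevG2.group (ZMod 3))) := by
  set H := Subgroup.closure {a, b, c, d, r, t} with hH
  have hHK : H ≤ K := by
    rw [hH, Subgroup.closure_le]
    rintro x (rfl | rfl | rfl | rfl | rfl | rfl)
    exacts [ma, mb, mc, md, mr, mt]
  have na : a ∈ H := Subgroup.subset_closure (by simp)
  have nb : b ∈ H := Subgroup.subset_closure (by simp)
  have nc : c ∈ H := Subgroup.subset_closure (by simp)
  have nd : d ∈ H := Subgroup.subset_closure (by simp)
  have nr : r ∈ H := Subgroup.subset_closure (by simp)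
  have nt : t ∈ H := Subgroup.subset_closure (by simp)
  have hl := Core.lift h H na nb nc nd nr nt
  have hgen : Subgroup.closure {(⟨a, na⟩ : H), (⟨b, nb⟩ : H), (⟨c, nc⟩ : H), (⟨d, nd⟩ : H), (⟨r, nr⟩ : H),
      (⟨t, nt⟩ : H)} = ⊤ := by
    have h1 := Subgroup.closure_closure_coe_preimage (k := ({a, b, c, d, r, t} : Set G))
    have h2 : (Subtype.val : H → G) ⁻¹' ({a, b, c, d, r, t} : Set G) = {(⟨a, na⟩ : H), (⟨b, nb⟩ : H),
        (⟨c, nc⟩ : H), (⟨d, nd⟩ : H), (⟨r, nr⟩ : H), (⟨t, nt⟩ : H)} := by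
      ext x
      simp only [Set.mem_preimage, Set.mem_insert_iff, Set.mem_singleton_iff, Subtype.ext_iff]
    rw [← h2]
    exact h1
  have ha1 : (⟨a, na⟩ : H) ≠ 1 := fun e => ha (congrArg Subtype.val e)
  obtain ⟨a', b', c', d', r', t', h', ha', hgen'⟩ := Model.model
  have hs := isSimple_chev
  have core' : ∀ y : ↥(Lie.chevG2.group (ZMod 3)), (∀ w, w⁻¹ * y * w ∈ NA a') → y = 1 := by
    intro y hy
    have hyN : y ∈ (NA a').normalCore := by
      intro w
      have := hy w⁻¹
      rwa [inv_inv] at this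
    have hnorm := Subgroup.normalCore_normal (NA a')
    rcases hnorm.eq_bot_or_eq_top with h1 | h1
    · rw [h1] at hyN
      exact Subgroup.mem_bot.mp hyN
    · exfalso
      apply h'.b_not_mem ha'
      have : b' ∈ (NA a').normalCore := by rw [h1]; trivial
      exact Subgroup.normalCore_le _ this
  obtain ⟨f, hf⟩ := exists_surj hl h' ha1 ha' hgen hgen' core'
  have hHf : Finite ↥H := Finite.of_injective (Subgroup.inclusion hHK) (Subgroup.inclusion_injective hHK)
  have h1 : 4245696 ≤ Nat.card ↥H := by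
    rw [← card_chev]
    exact Nat.card_le_card_of_surjective f hf
  have h2 : Nat.card ↥H ≤ Nat.card ↥K := Nat.card_le_card_of_injective _ (Subgroup.inclusion_injective hHK)
  have h3 : Nat.card ↥H = 4245696 := le_antisymm (h2.trans hK) h1
  have h4 : H = K := Subgroup.eq_of_le_of_card_ge hHK (hK.trans h1)
  have hb : Function.Bijective f := (Nat.bijective_iff_surjective_and_card f).2 ⟨hf, by rw [h3, card_chev]⟩
  have e1 : ↥H ≃* ↥(Lie.chevG2.group (ZMod 3)) := MulEquiv.ofBijective f hb
  refine ⟨h4.symm, by rw [← h4, h3], ⟨(MulEquiv.subgroupCongr h4.symm).trans e1⟩⟩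

end Cfsg.Agent.H845.GTwoIso
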