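import Mathlib
import Cfsg.Agent.H697.Lift
import Cfsg.Agent.SmallSimple.WittRing
import Cfsg.Agent.H717.FT
import Cfsg.Agent.H978.Alm.Affine_m3
import Cfsg.Agent.S0102
import Cfsg.Agent.H107.SpinRep
import Cfsg.Agent.Prune
set_option linter.all false

section
prune_inst 0x7f00000000000000000000000000000000000000000000000000000000000000000000000000000000000000000000000000000000000000000000000000000000000000000000000000000000000000003ffffffffffffffffffff7ffffffbeffbdf7ffffff

-- part: H831/RepLift
section
prune_inst 0x800000000000008000000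
set_option linter.all false
open scoped Cfsg.Agent.FastGrp

/-!
# Lifting coprime linear groups over finite fields to characteristic zero (helper831, for S4881)

`exists_lift` : `A` a `p`-adically complete commutative ring with residue field `k`, `D` a finite group of order prime
to `p`: a homomorphism `D →* GL_n(k)` lifts to `GL_n(A)`.
`exists_complex` : a faithful representation over a finite field of characteristic `p` of a finite `p'`-group gives a
faithful complex representation of the same degree.
-/

set_option autoImplicit false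

namespace Cfsg.Agent.H831.RepLift

section Gen

variable {A : Type*} [CommRing A] {p : ℕ} {k : Type*} [Field k] {φ : A →+* k} {n : ℕ}

theorem cast_pow_mul (m : ℕ) (B : Matrix (Fin n) (Fin n) A) :
    (p : Matrix (Fin n) (Fin n) A) ^ m * B = ((p : A) ^ m) • B := by
  have : (p : Matrix (Fin n) (Fin n) A) = (p : A) • (1 : Matrix (Fin n) (Fin n) A) := by
    rw [Nat.cast_smul_eq_nsmul, nsmul_one]
  rw [this, smul_pow, one_pow, smul_mul_assoc, one_mul]

theorem cast_pow_dvd_iff (m : ℕ) (M : Matrix (Fin n) (Fin n) A) :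
    (p : Matrix (Fin n) (Fin n) A) ^ m ∣ M ↔ ∀ i j, (p : A) ^ m ∣ M i j := by
  constructor
  · rintro ⟨B, rfl⟩ i j
    rw [cast_pow_mul]
    exact ⟨B i j, by simp [Matrix.smul_apply]⟩
  · intro h
    choose B hB using h
    refine ⟨Matrix.of B, ?_⟩
    rw [cast_pow_mul]
    ext i j
    simp [hB i j]

/-- a complete residue situation -/
structure Res (p : ℕ) (φ : A →+* k) : Prop where
  complete : IsAdicComplete (Ideal.span {(p : A)}) A
  surj : Function.Surjective φ
  ker : RingHom.ker φ = Ideal.span {(p : A)}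

theorem Res.eq_zero_iff (h : Res p φ) (a : A) : φ a = 0 ↔ (p : A) ∣ a := by
  rw [← RingHom.mem_ker, h.ker, Ideal.mem_span_singleton]

theorem Res.isUnit (h : Res p φ) {a : A} (ha : φ a ≠ 0) : IsUnit a := by
  have := h.complete
  obtain ⟨b, hb⟩ := h.surj (φ a)⁻¹
  have h1 : a * b - 1 ∈ Ideal.span {(p : A)} := by
    rw [← h.ker, RingHom.mem_ker, map_sub, map_mul, hb, map_one, mul_inv_cancel₀ ha, sub_self]
  have h2 := IsAdicComplete.le_jacobson_bot (Ideal.span {(p : A)}) h1
  have h3 := Ideal.mem_jacobson_bot.1 h2 1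
  rw [mul_one, sub_add_cancel] at h3
  exact isUnit_of_mul_isUnit_left h3

theorem Res.isUnit_matrix (h : Res p φ) {M : Matrix (Fin n) (Fin n) A} {B : GL (Fin n) k} (hM : M.map φ = B) :
    IsUnit M := by
  rw [Matrix.isUnit_iff_isUnit_det]
  apply h.isUnit
  rw [RingHom.map_det, RingHom.mapMatrix_apply, hM]
  exact ((Matrix.isUnit_iff_isUnit_det _).1 B.isUnit).ne_zero

theorem Res.map_eq_iff (h : Res p φ) (M N : Matrix (Fin n) (Fin n) A) :
    M.map φ = N.map φ ↔ (p : Matrix (Fin n) (Fin n) A) ^ 1 ∣ M - N := by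
  rw [cast_pow_dvd_iff, ← Matrix.ext_iff]
  refine forall_congr' fun i => forall_congr' fun j => ?_
  rw [Matrix.map_apply, Matrix.map_apply, ← sub_eq_zero, ← map_sub, h.eq_zero_iff, pow_one, Matrix.sub_apply]

variable {D : Type*} [Group D] [Finite D]

/-- maps multiplicative modulo `p ^ m` lifting `σ`. -/
def Appr (φ : A →+* k) (p : ℕ) (σ : D →* GL (Fin n) k) (m : ℕ) : Set (D → Matrix (Fin n) (Fin n) A) :=
  {f | (∀ g, (f g).map φ = σ g) ∧ ∀ g h, (p : Matrix (Fin n) (Fin n) A) ^ m ∣ f (g * h) - f g * f h}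

omit [Finite D] in
theorem appr_one (h : Res p φ) (σ : D →* GL (Fin n) k) : (Appr φ p σ 1).Nonempty := by
  have hs := h.surj
  choose s hs using hs
  refine ⟨fun g => (σ g : Matrix (Fin n) (Fin n) k).map s, fun g => ?_, fun g g' => ?_⟩
  · ext i j
    simp [hs]
  · rw [← h.map_eq_iff]
    have h1 : ∀ B : Matrix (Fin n) (Fin n) k, (B.map s).map φ = B := by
      intro B
      ext i j
      simp [hs]
    rw [h1, Matrix.map_mul, h1, h1, map_mul]
    rfl

theorem appr_succ (h : Res p φ) (hcop : (Nat.card D : k) ≠ 0) (σ : D →* GL (Fin n) k) {m : ℕ} (hm : 1 ≤ m)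
    {f : D → Matrix (Fin n) (Fin n) A} (hf : f ∈ Appr φ p σ m) :
    ∃ f' ∈ Appr φ p σ (m + 1), ∀ g, (p : Matrix (Fin n) (Fin n) A) ^ m ∣ f' g - f g := by
  classical
  have := Fintype.ofFinite D
  obtain ⟨hf1, hf2⟩ := hf
  have hu : IsUnit ((Fintype.card D : ℕ) : A) := by
    rw [← Nat.card_eq_fintype_card]
    apply h.isUnit
    rwa [map_natCast]
  obtain ⟨v, hv⟩ := hu.exists_right_inv
  have hunit : ∀ g, IsUnit (f g) := fun g => h.isUnit_matrix (hf1 g)
  choose F hF using hunit
  obtain ⟨f', h1, h2⟩ := H697.Lift.newton (R := Matrix (Fin n) (Fin n) A) (D := D) p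
    (algebraMap A _ v) (by
      rw [← map_natCast (algebraMap A (Matrix (Fin n) (Fin n) A)), ← map_mul, hv, map_one])
    (fun z => Algebra.commutes v z) m F (fun g h => by simpa [hF] using hf2 g h)
  refine ⟨f', ⟨fun g => ?_, fun g g' => ?_⟩, fun g => ?_⟩
  · rw [← hf1 g, h.map_eq_iff]
    have := h1 g
    rw [hF] at this
    exact (pow_dvd_pow _ hm).trans this
  · exact (pow_dvd_pow _ (by omega)).trans (h2 g g')
  · have := h1 g
    rwa [hF] at this

theorem mem_smul_top {a x : A} {m : ℕ} : x ∈ ((Ideal.span {a}) ^ m • (⊤ : Submodule A A)) ↔ a ^ m ∣ x := by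
  rw [smul_eq_mul, Ideal.mul_top, Ideal.span_singleton_pow, Ideal.mem_span_singleton]

/-- **Lifting.** -/
theorem exists_lift (h : Res p φ) (hcop : (Nat.card D : k) ≠ 0) (σ : D →* GL (Fin n) k) :
    ∃ τ : D →* GL (Fin n) A, ∀ g, Matrix.GeneralLinearGroup.map φ (τ g) = σ g := by
  classical
  have hcomp := h.complete
  -- the sequence
  have hstep : ∀ (m : ℕ) (f : ↥(Appr φ p σ (m + 1))), ∃ f' : ↥(Appr φ p σ (m + 1 + 1)),
      ∀ g, (p : Matrix (Fin n) (Fin n) A) ^ (m + 1) ∣ f'.1 g - f.1 g := fun m f => by
    obtain ⟨f', h1, h2⟩ := appr_succ h hcop σ (by omega) f.2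
    exact ⟨⟨f', h1⟩, h2⟩
  choose nx hnx using hstep
  obtain ⟨f₀, hf₀⟩ := appr_one h σ
  let s : ∀ m : ℕ, ↥(Appr φ p σ (m + 1)) := fun m => Nat.rec ⟨f₀, hf₀⟩ (fun m f => nx m f) m
  have hs : ∀ m g, (p : Matrix (Fin n) (Fin n) A) ^ (m + 1) ∣ (s (m + 1)).1 g - (s m).1 g := fun m g => hnx m (s m) g
  have hs' : ∀ m j g, (p : Matrix (Fin n) (Fin n) A) ^ m ∣ (s (m + j)).1 g - (s m).1 g := by
    intro m j g
    induction j with
    | zero => rw [add_zero, sub_self]; exact dvd_zero _
    | succ j ih =>
      have h1 := (pow_dvd_pow (p : Matrix (Fin n) (Fin n) A) (show m ≤ m + j + 1 by omega)).trans (hs (m + j) g)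
      have h2 : (s (m + (j + 1))).1 g - (s m).1 g = ((s (m + j + 1)).1 g - (s (m + j)).1 g) +
          ((s (m + j)).1 g - (s m).1 g) := by
        rw [sub_add_sub_cancel]
        rfl
      rw [h2]
      exact dvd_add h1 ih
  -- the limit
  have hlim : ∀ g i j, ∃ L : A, ∀ m, (p : A) ^ m ∣ (s m).1 g i j - L := by
    intro g i j
    obtain ⟨L, hL⟩ := IsPrecomplete.prec' (I := Ideal.span {(p : A)}) (M := A) (fun m => (s m).1 g i j) (by
      intro m l hml
      rw [SModEq.sub_mem, mem_smul_top]
      obtain ⟨d, rfl⟩ := Nat.exists_eq_add_of_le hml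
      have h1 := (cast_pow_dvd_iff m _).1 (hs' m d g) i j
      rw [Matrix.sub_apply] at h1
      rw [← neg_sub]
      exact (dvd_neg).2 h1)
    refine ⟨L, fun m => ?_⟩
    have h1 := hL m
    rwa [SModEq.sub_mem, mem_smul_top] at h1
  choose L hL using hlim
  let f : D → Matrix (Fin n) (Fin n) A := fun g => Matrix.of (L g)
  have hf : ∀ m g, (p : Matrix (Fin n) (Fin n) A) ^ m ∣ (s m).1 g - f g := by
    intro m g
    rw [cast_pow_dvd_iff]
    intro i j
    exact hL g i j m
  have hmap : ∀ g, (f g).map φ = σ g := by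
    intro g
    rw [← (s 1).2.1 g]
    exact ((h.map_eq_iff _ _).2 (hf 1 g)).symm
  have hzero : ∀ M : Matrix (Fin n) (Fin n) A, (∀ m, (p : Matrix (Fin n) (Fin n) A) ^ m ∣ M) → M = 0 := by
    intro M hM
    ext i j
    apply IsHausdorff.haus' (I := Ideal.span {(p : A)}) (M := A)
    intro m
    rw [SModEq.zero, mem_smul_top]
    exact (cast_pow_dvd_iff m M).1 (hM m) i j
  have hmul : ∀ g g', f (g * g') = f g * f g' := by
    intro g g'
    rw [← sub_eq_zero]
    apply hzero
    intro m
    have e1 := hf m (g * g')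
    have e2 := hf m g
    have e3 := hf m g'
    have e4 := (pow_dvd_pow (p : Matrix (Fin n) (Fin n) A) (show m ≤ m + 1 by omega)).trans ((s m).2.2 g g')
    have e5 : f (g * g') - f g * f g' = -((s m).1 (g * g') - f (g * g')) + ((s m).1 (g * g') - (s m).1 g * (s m).1 g') +
        ((s m).1 g - f g) * (s m).1 g' + f g * ((s m).1 g' - f g') := by
      simp only [sub_mul, mul_sub]
      abel
    rw [e5]
    refine dvd_add (dvd_add (dvd_add ((dvd_neg).2 e1) e4) (Dvd.dvd.mul_right e2 _)) ?_
    exact H697.Lift.dvd_left (H697.Lift.cast_pow_comm p m) e3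
  have hone : f 1 = 1 := by
    have h1 := hmul 1 1
    rw [one_mul] at h1
    have h2 : IsUnit (f 1) := h.isUnit_matrix (hmap 1)
    exact (h2.mul_left_cancel (by rw [mul_one]; exact h1)).symm
  let ψ : D →* Matrix (Fin n) (Fin n) A :=
    { toFun := f, map_one' := hone, map_mul' := hmul }
  refine ⟨ψ.toHomUnits, fun g => ?_⟩
  apply Units.ext
  exact hmap g

end Gen

/-- the Witt vectors of the algebraic closure of `𝔽_p` -/
theorem res_witt (p : ℕ) [Fact p.Prime] : Res (A := SmallSimple.WittRing.A p) p
    (WittVector.constantCoeff (p := p) (R := SmallSimple.WittRing.kbar p)) where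
  complete := SmallSimple.WittRing.isAdicComplete_A p
  surj := WittVector.constantCoeff_surjective p
  ker := WittVector.ker_constantCoeff

/-- **The complex representation of a coprime linear group over a finite field.** -/
theorem exists_complex {F : Type*} [Field F] [Finite F] {p : ℕ} [Fact p.Prime] [CharP F p] {P : Type*} [Group P]
    [Finite P] (hcop : ¬ p ∣ Nat.card P) {n : ℕ} (σ : P →* Matrix.GeneralLinearGroup (Fin n) F)
    (hσ : Function.Injective σ) : ∃ ρ : Representation ℂ P (Fin n → ℂ), Function.Injective ρ := by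
  let _ : Algebra (ZMod p) F := ZMod.algebra F p
  have hfin : Module.Finite (ZMod p) F := Module.Finite.of_finite
  let j : F →ₐ[ZMod p] SmallSimple.WittRing.kbar p := IsAlgClosed.lift
  let σ' : P →* GL (Fin n) (SmallSimple.WittRing.kbar p) := (Matrix.GeneralLinearGroup.map (j : F →+* _)).comp σ
  have hσ' : Function.Injective σ' := by
    intro a b hab
    apply hσ
    apply Units.ext
    ext i l
    have h1 := congrArg (fun x : GL (Fin n) (SmallSimple.WittRing.kbar p) => 
      (x : Matrix (Fin n) (Fin n) (SmallSimple.WittRing.kbar p)) i l) hab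
    exact j.injective h1
  obtain ⟨τ, hτ⟩ := exists_lift (res_witt p) (D := P) (by
    intro h
    exact hcop ((CharP.cast_eq_zero_iff (SmallSimple.WittRing.kbar p) p _).1 h)) σ'
  obtain ⟨ι, hι⟩ := SmallSimple.WittRing.exists_embedding p
  have hτi : Function.Injective τ := by
    intro a b hab
    apply hσ'
    rw [← hτ, ← hτ, hab]
  let f : P →* Matrix (Fin n) (Fin n) ℂ :=
    (ι.mapMatrix : Matrix (Fin n) (Fin n) (SmallSimple.WittRing.A p) →+* Matrix (Fin n) (Fin n) ℂ).toMonoidHom.comp
      ((Units.coeHom _).comp τ)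
  have hf : Function.Injective f := by
    intro a b hab
    apply hτi
    apply Units.ext
    have h1 : ((τ a : GL (Fin n) (SmallSimple.WittRing.A p)) : Matrix (Fin n) (Fin n) (SmallSimple.WittRing.A p)).map ι =
      ((τ b : GL (Fin n) (SmallSimple.WittRing.A p)) : Matrix (Fin n) (Fin n) (SmallSimple.WittRing.A p)).map ι := hab
    exact Matrix.map_injective hι h1
  refine ⟨(Matrix.toLinAlgEquiv' : Matrix (Fin n) (Fin n) ℂ ≃ₐ[ℂ] _).toAlgHom.toRingHom.toMonoidHom.comp f, ?_⟩
  intro a b hab
  exact hf (Matrix.toLinAlgEquiv'.injective hab)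

universe u

/-- A representation of type `Rep` is a faithful complex representation of the central extension. -/
theorem rep_complex {p m : ℕ} {T : Type u} [Group T] (hp : p.Prime) (h : H698.Rep.{u, u} p m T) :
    ∃ (P : Type u) (_ : Group P) (_ : Finite P) (π : P →* T) (ρ : Representation ℂ P (Fin m → ℂ)),
      Function.Surjective π ∧ π.ker ≤ Subgroup.center P ∧ commutator P = ⊤ ∧ Function.Injective ρ := by
  obtain ⟨F, _, _, _, P, _, _, π, σ, h1, h2, h3, h4, h5⟩ := h
  have : Fact p.Prime := ⟨hp⟩
  obtain ⟨ρ, hρ⟩ := exists_complex (F := F) h5 σ h4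
  exact ⟨P, inferInstance, inferInstance, π, ρ, h1, h2, h3, hρ⟩

/-- a simple nonabelian group is not an `s`-group -/
theorem not_isPGroup {T : Type*} [Group T] [Finite T] [IsSimpleGroup T] (hna : ¬ IsMulCommutative T) {s : ℕ}
    (hs : s.Prime) : ¬ IsPGroup s T := by
  intro h
  have : Fact s.Prime := ⟨hs⟩
  have h1 : Group.IsNilpotent T := h.isNilpotent
  have h2 : Group.IsSolvable T := inferInstance
  have h3 := IsSimpleGroup.comm_iff_isSolvable.2 h2
  exact hna ⟨⟨h3⟩⟩

/-- the Sylow subgroups of a perfect central extension of a simple group are not normal -/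
theorem not_normal {P T : Type*} [Group P] [Finite P] [Group T] [Finite T] [IsSimpleGroup T]
    (hna : ¬ IsMulCommutative T) {π : P →* T} (hπ : Function.Surjective π) {s : ℕ} (hs : s.Prime)
    (hsT : s ∣ Nat.card T) (Q : Sylow s P) : ¬ (Q : Subgroup P).Normal := by
  intro hQ
  have : Fact s.Prime := ⟨hs⟩
  have h1 : ((Q : Subgroup P).map π).Normal := hQ.map π hπ
  rcases h1.eq_bot_or_eq_top with h | h
  · have h2 : (Q : Subgroup P) ≤ π.ker := by
      intro x hx
      have h3 : π x ∈ (Q : Subgroup P).map π := ⟨x, hx, rfl⟩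
      rwa [h, Subgroup.mem_bot] at h3
    have h3 : s ∣ π.ker.index := by
      rw [Subgroup.index_ker, MonoidHom.range_eq_top.2 hπ, Subgroup.card_top]
      exact hsT
    exact Q.not_dvd_index (h3.trans (Subgroup.index_dvd_of_le h2))
  · have h2 : IsPGroup s ↥((Q : Subgroup P).map π) := Q.isPGroup'.map π
    rw [h] at h2
    exact not_isPGroup hna hs (h2.of_equiv Subgroup.topEquiv)

/-- **The primes dividing the order of `T` and the degree.** -/
theorem prime_le {p m s : ℕ} {T : Type u} [Group T] [Finite T] [IsSimpleGroup T] (hna : ¬ IsMulCommutative T)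
    (hp : p.Prime) (h : H698.Rep.{u, u} p m T) (hs : s.Prime) (hsT : s ∣ Nat.card T) : s ≤ 2 * m + 1 ∧
      (s = 2 * m + 1 → ¬ s ^ 2 ∣ Nat.card T →
        Nonempty (T ≃* Matrix.ProjectiveSpecialLinearGroup (Fin 2) (ZMod s))) := by
  obtain ⟨P, _, _, π, ρ, h1, h2, h3, hρ⟩ := rep_complex hp h
  have hsf : Fact s.Prime := ⟨hs⟩
  have hm : 1 ≤ m := by
    rcases Nat.eq_zero_or_pos m with h0 | h0
    · exfalso
      subst h0
      have hsub : ∀ a b : P, a = b := fun a b => hρ (LinearMap.ext fun v => Subsingleton.elim _ _)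
      apply hna
      refine ⟨⟨fun a b => ?_⟩⟩
      obtain ⟨x, rfl⟩ := h1 a
      obtain ⟨y, rfl⟩ := h1 b
      rw [hsub x y]
    · exact h0
  obtain ⟨Q⟩ : Nonempty (Sylow s P) := inferInstance
  have hQ := not_normal hna h1 hs hsT Q
  constructor
  · by_contra hlt
    exact hQ (H717.FT.normal_of_lt hm ρ hρ (by omega) Q)
  · intro hsm hsq
    -- the Sylow `s`-subgroups of `T` have order `s`
    have hcyc : ∀ R : Sylow s T, IsCyclic R := by
      intro R
      obtain ⟨k, hk⟩ := IsPGroup.iff_card.1 R.isPGroup'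
      have h4 : Nat.card ↥(R : Subgroup T) ∣ Nat.card T := Subgroup.card_subgroup_dvd_card _
      rw [hk] at h4
      have hk1 : k ≤ 1 := by
        by_contra hcon
        exact hsq ((pow_dvd_pow s (by omega : 2 ≤ k)).trans h4)
      interval_cases k
      · rw [pow_zero] at hk
        have : Subsingleton ↥(R : Subgroup T) := (Nat.card_eq_one_iff_unique.1 hk).1
        exact isCyclic_of_subsingleton
      · rw [pow_one] at hk
        exact isCyclic_of_prime_card hk
    have hperf : commutator T = ⊤ := by
      rw [commutator_def, ← MonoidHom.range_eq_top.2 h1, MonoidHom.range_eq_map, ← Subgroup.map_commutator,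
        ← commutator_def, h3]
    have hker : ¬ s ∣ Nat.card π.ker := Cfsg.Agent.S0102.result hperf hcyc π h1 h2 h3
    have hcard : Nat.card P = Nat.card π.ker * Nat.card T := by
      rw [← Subgroup.card_mul_index π.ker, Subgroup.index_ker, MonoidHom.range_eq_top.2 h1, Subgroup.card_top]
    have hsqP : ¬ s ^ 2 ∣ Nat.card P := by
      rw [hcard]
      intro h4
      exact hsq ((((Nat.Prime.coprime_iff_not_dvd hs).2 hker).pow_left 2).dvd_of_dvd_mul_left h4)
    have hQc : Nat.card Q = s := by
      obtain ⟨k, hk⟩ := IsPGroup.iff_card.1 Q.isPGroup'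
      have h4 : Nat.card ↥(Q : Subgroup P) ∣ Nat.card P := Subgroup.card_subgroup_dvd_card _
      change Nat.card ↥(Q : Subgroup P) = _ at hk
      rw [hk] at h4
      rcases k with _ | _ | k
      · exfalso
        rw [pow_zero, Subgroup.card_eq_one] at hk
        exact hQ (by rw [hk]; infer_instance)
      · rw [zero_add, pow_one] at hk
        exact hk
      · exact absurd ((pow_dvd_pow s (by omega : 2 ≤ k + 1 + 1)).trans h4) hsqP
    obtain ⟨-, ⟨e⟩⟩ := Cfsg.Agent.H607.Ordinary.main s ρ hρ hsqP Q hQc hQ (by omega)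
    -- `ker π = Z(P)`
    have hz : π.ker = Subgroup.center P := by
      apply le_antisymm h2
      intro x hx
      have hT : Subgroup.center T = ⊥ := by
        have hn : (Subgroup.center T).Normal := inferInstance
        rcases hn.eq_bot_or_eq_top with h4 | h4
        · exact h4
        · exfalso
          apply hna
          refine ⟨⟨fun a b => ?_⟩⟩
          have h5 : b ∈ Subgroup.center T := by rw [h4]; exact Subgroup.mem_top _
          exact Subgroup.mem_center_iff.1 h5 a
      have h5 : π x ∈ Subgroup.center T := by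
        rw [Subgroup.mem_center_iff]
        intro t
        obtain ⟨y, rfl⟩ := h1 t
        rw [← map_mul, ← map_mul, Subgroup.mem_center_iff.1 hx y]
      rwa [hT, Subgroup.mem_bot] at h5
    have e1 : P ⧸ Subgroup.center P ≃* T :=
      (QuotientGroup.quotientMulEquivOfEq hz.symm).trans (QuotientGroup.quotientKerEquivOfSurjective π h1)
    exact ⟨e1.symm.trans e⟩

end Cfsg.Agent.H831.RepLift
end

-- part: H845/LiftIrr
section
set_option linter.all false
open scoped Cfsg.Agent.FastGrp

/-!
# Irreducible complex lifts of coprime matrix groups with scalar commutant (helper845)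

`exists_irr_lift` : a homomorphism `σ` of a finite group to `GL_n(F)`, `F` finite of characteristic `p` prime to the
order of the group, such that only scalar matrices commute with the image: there is an irreducible complex
representation of degree `n` such that every integral linear relation between values of its character holds (modulo
`p`) for the traces of `σ`.
-/

set_option autoImplicit false

namespace Cfsg.Agent.H845.LiftIrr

open Cfsg.Agent.H831.RepLift

section SC

variable {G : Type*} {n : ℕ}

/-- only scalar matrices commute with the matrices `f g` -/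
def SC {K : Type*} [CommRing K] (f : G → Matrix (Fin n) (Fin n) K) : Prop :=
  ∀ X : Matrix (Fin n) (Fin n) K, (∀ g, X * f g = f g * X) → ∃ c : K, X = c • (1 : Matrix (Fin n) (Fin n) K)

theorem scalar_of {K : Type*} [CommRing K] {X : Matrix (Fin n) (Fin n) K} (h1 : ∀ i j, i ≠ j → X i j = 0)
    (h2 : ∀ i j, X i i = X j j) : ∃ c : K, X = c • (1 : Matrix (Fin n) (Fin n) K) := by
  rcases Nat.eq_zero_or_pos n with rfl | hn
  · exact ⟨0, Subsingleton.elim _ _⟩
  · refine ⟨X ⟨0, hn⟩ ⟨0, hn⟩, ?_⟩
    ext i j
    rw [Matrix.smul_apply, Matrix.one_apply]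
    by_cases h : i = j
    · subst h
      rw [if_pos rfl, smul_eq_mul, mul_one]
      exact h2 _ _
    · rw [if_neg h, smul_zero]
      exact h1 i j h

/-- field extensions -/
theorem SC.ext {K L : Type*} [Field K] [Field L] [Algebra K L] {f : G → Matrix (Fin n) (Fin n) K} (h : SC f) :
    SC (fun g => (f g).map (algebraMap K L)) := by
  intro X hX
  have key : ∀ φ : Module.Dual K L, ∃ c : K, X.map φ = c • (1 : Matrix (Fin n) (Fin n) K) := by
    intro φ
    apply h
    intro g
    ext i k
    have h1 := congrFun (congrFun (hX g) i) k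
    rw [Matrix.mul_apply, Matrix.mul_apply] at h1
    have h2 := congrArg φ h1
    rw [map_sum, map_sum] at h2
    rw [Matrix.mul_apply, Matrix.mul_apply]
    calc ∑ j, X.map φ i j * f g j k = ∑ j, φ (X i j * (f g).map (algebraMap K L) j k) := by
          refine Finset.sum_congr rfl fun j _ => ?_
          rw [Matrix.map_apply, Matrix.map_apply, mul_comm (X i j), ← Algebra.smul_def, map_smul, smul_eq_mul,
            mul_comm]
      _ = ∑ j, φ ((f g).map (algebraMap K L) i j * X j k) := h2
      _ = ∑ j, f g i j * X.map φ j k := by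
          refine Finset.sum_congr rfl fun j _ => ?_
          rw [Matrix.map_apply, Matrix.map_apply, ← Algebra.smul_def, map_smul, smul_eq_mul]
  refine scalar_of ?_ ?_
  · intro i j hij
    rw [← Module.forall_dual_apply_eq_zero_iff K]
    intro φ
    obtain ⟨c, hc⟩ := key φ
    have h1 := congrFun (congrFun hc i) j
    rw [Matrix.map_apply, Matrix.smul_apply, Matrix.one_apply_ne hij, smul_zero] at h1
    exact h1
  · intro i j
    rw [← sub_eq_zero, ← Module.forall_dual_apply_eq_zero_iff K]
    intro φ
    obtain ⟨c, hc⟩ := key φ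
    have h1 := congrFun (congrFun hc i) i
    have h2 := congrFun (congrFun hc j) j
    rw [Matrix.map_apply, Matrix.smul_apply, Matrix.one_apply_eq] at h1 h2
    rw [map_sub, h1, h2, sub_self]

/-- reduction modulo `p` -/
theorem SC.of_res {A : Type*} [CommRing A] [IsDomain A] {p : ℕ} {k : Type*} [Field k] {φ : A →+* k} (h : Res p φ)
    (hp : (p : A) ≠ 0) {f : G → Matrix (Fin n) (Fin n) A} (hf : SC (fun g => (f g).map φ)) : SC f := by
  intro X hX
  have hcomp := h.complete
  have key : ∀ m : ℕ, ∃ (c : A) (Y : Matrix (Fin n) (Fin n) A),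
      X = c • (1 : Matrix (Fin n) (Fin n) A) + ((p : A) ^ m) • Y := by
    intro m
    induction m with
    | zero => exact ⟨0, X, by rw [zero_smul, zero_add, pow_zero, one_smul]⟩
    | succ m ih =>
      obtain ⟨c, Y, hY⟩ := ih
      have hYc : ∀ g, Y * f g = f g * Y := by
        intro g
        have h1 := hX g
        rw [hY, add_mul, mul_add, Matrix.smul_mul, Matrix.mul_smul, Matrix.one_mul, Matrix.mul_one, Matrix.smul_mul,
          Matrix.mul_smul, add_right_inj] at h1
        have h2 : ((p : A) ^ m) • (Y * f g - f g * Y) = 0 := by rw [smul_sub, h1, sub_self]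
        rw [← sub_eq_zero]
        exact (smul_eq_zero.1 h2).resolve_left (pow_ne_zero m hp)
      obtain ⟨d, hd⟩ := hf (Y.map φ) (by
        intro g
        change Y.map φ * (f g).map φ = (f g).map φ * Y.map φ
        rw [← Matrix.map_mul, ← Matrix.map_mul, hYc g])
      obtain ⟨e, rfl⟩ := h.surj d
      have h3 : ∀ i j, ∃ z : A, Y i j - (e • (1 : Matrix (Fin n) (Fin n) A)) i j = (p : A) * z := by
        intro i j
        have h4 : φ (Y i j - (e • (1 : Matrix (Fin n) (Fin n) A)) i j) = 0 := by
          have h5 := congrFun (congrFun hd i) j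
          rw [Matrix.map_apply] at h5
          rw [map_sub, h5, Matrix.smul_apply, Matrix.smul_apply, smul_eq_mul, smul_eq_mul, map_mul, Matrix.one_apply,
            Matrix.one_apply]
          split_ifs <;> simp
        exact (h.eq_zero_iff _).1 h4
      choose Z hZ using h3
      refine ⟨c + (p : A) ^ m * e, Matrix.of Z, ?_⟩
      have h6 : Y = e • (1 : Matrix (Fin n) (Fin n) A) + (p : A) • Matrix.of Z := by
        ext i j
        have := hZ i j
        rw [Matrix.add_apply, Matrix.smul_apply (p : A), Matrix.of_apply, smul_eq_mul (p : A), ← this]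
        ring
      rw [hY]
      conv_lhs => rw [h6]
      rw [smul_add, smul_smul, smul_smul, ← add_assoc, ← add_smul, ← pow_succ]
  have hz : ∀ a : A, (∀ m, (p : A) ^ m ∣ a) → a = 0 := by
    intro a ha
    apply IsHausdorff.haus' (I := Ideal.span {(p : A)}) (M := A)
    intro m
    rw [SModEq.zero, mem_smul_top]
    exact ha m
  refine scalar_of ?_ ?_
  · intro i j hij
    apply hz
    intro m
    obtain ⟨c, Y, hY⟩ := key m
    refine ⟨Y i j, ?_⟩
    rw [hY, Matrix.add_apply, Matrix.smul_apply, Matrix.smul_apply, Matrix.one_apply_ne hij, smul_zero, zero_add,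
      smul_eq_mul]
  · intro i j
    rw [← sub_eq_zero]
    apply hz
    intro m
    obtain ⟨c, Y, hY⟩ := key m
    refine ⟨Y i i - Y j j, ?_⟩
    rw [hY, Matrix.add_apply, Matrix.smul_apply, Matrix.smul_apply, Matrix.add_apply, Matrix.smul_apply,
      Matrix.smul_apply, Matrix.one_apply_eq, Matrix.one_apply_eq, smul_eq_mul, smul_eq_mul, smul_eq_mul]
    ring

/-- the field of fractions -/
theorem SC.frac {A : Type*} [CommRing A] [IsDomain A] {K : Type*} [Field K] [Algebra A K] [IsFractionRing A K]
    {f : G → Matrix (Fin n) (Fin n) A} (hf : SC f) : SC (fun g => (f g).map (algebraMap A K)) := by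
  intro X hX
  obtain ⟨b, hb⟩ := IsLocalization.exist_integer_multiples_of_finite (nonZeroDivisors A)
    (fun q : Fin n × Fin n => X q.1 q.2)
  choose Z hZ using hb
  have hb0 : algebraMap A K (b : A) ≠ 0 := by
    rw [Ne, map_eq_zero_iff _ (IsFractionRing.injective A K)]
    exact nonZeroDivisors.ne_zero b.2
  have hZX : (Matrix.of fun i j => Z (i, j)).map (algebraMap A K) = (algebraMap A K (b : A)) • X := by
    ext i j
    rw [Matrix.map_apply, Matrix.of_apply, hZ (i, j), Matrix.smul_apply, Algebra.smul_def, smul_eq_mul]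
  obtain ⟨c, hc⟩ := hf (Matrix.of fun i j => Z (i, j)) (by
    intro g
    apply Matrix.map_injective (IsFractionRing.injective A K)
    change ((Matrix.of fun i j => Z (i, j)) * f g).map (algebraMap A K) =
      (f g * (Matrix.of fun i j => Z (i, j))).map (algebraMap A K)
    rw [Matrix.map_mul, Matrix.map_mul, hZX, Matrix.smul_mul, Matrix.mul_smul, hX g])
  refine ⟨(algebraMap A K (b : A))⁻¹ * algebraMap A K c, ?_⟩
  have h1 : (algebraMap A K (b : A)) • X = algebraMap A K c • (1 : Matrix (Fin n) (Fin n) K) := by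
    rw [← hZX, hc]
    ext i j
    rw [Matrix.map_apply, Matrix.smul_apply, Matrix.smul_apply, smul_eq_mul, smul_eq_mul, map_mul, Matrix.one_apply,
      Matrix.one_apply]
    split_ifs <;> simp
  rw [mul_smul, ← h1, smul_smul, inv_mul_cancel₀ hb0, one_smul]

end SC

/-- **Irreducible complex lift.** -/
theorem exists_irr_lift {F : Type*} [Field F] [Finite F] {p : ℕ} [Fact p.Prime] [CharP F p] {P : Type*} [Group P]
    [Finite P] (hcop : ¬ p ∣ Nat.card P) {n : ℕ} (hn : 0 < n) (σ : P →* Matrix.GeneralLinearGroup (Fin n) F)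
    (hσ : SC (fun g => ((σ g : Matrix.GeneralLinearGroup (Fin n) F) : Matrix (Fin n) (Fin n) F))) :
    ∃ ρ : Representation ℂ P (Fin n → ℂ), ρ.IsIrreducible ∧
      ∀ (s : Multiset P) (N : ℤ), (s.map fun g => ρ.character g).sum = (N : ℂ) →
        (s.map fun g => Matrix.trace ((σ g : Matrix.GeneralLinearGroup (Fin n) F) : Matrix (Fin n) (Fin n) F)).sum =
          (N : F) := by
  let _ : Algebra (ZMod p) F := ZMod.algebra F p
  have hfin : Module.Finite (ZMod p) F := Module.Finite.of_finite
  let j : F →ₐ[ZMod p] SmallSimple.WittRing.kbar p := IsAlgClosed.lift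
  let σ' : P →* GL (Fin n) (SmallSimple.WittRing.kbar p) := (Matrix.GeneralLinearGroup.map (j : F →+* _)).comp σ
  have hσ'v : ∀ g, ((σ' g : GL (Fin n) (SmallSimple.WittRing.kbar p)) :
      Matrix (Fin n) (Fin n) (SmallSimple.WittRing.kbar p)) =
      ((σ g : Matrix.GeneralLinearGroup (Fin n) F) : Matrix (Fin n) (Fin n) F).map j := fun g => rfl
  obtain ⟨τ, hτ⟩ := exists_lift (res_witt p) (D := P) (by
    intro h
    exact hcop ((CharP.cast_eq_zero_iff (SmallSimple.WittRing.kbar p) p _).1 h)) σ'
  obtain ⟨ι, hι⟩ := SmallSimple.WittRing.exists_embedding p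
  -- the commutants
  have c1 : SC (fun g => ((σ' g : GL (Fin n) (SmallSimple.WittRing.kbar p)) :
      Matrix (Fin n) (Fin n) (SmallSimple.WittRing.kbar p))) := by
    let _ : Algebra F (SmallSimple.WittRing.kbar p) := (j : F →+* SmallSimple.WittRing.kbar p).toAlgebra
    exact hσ.ext (L := SmallSimple.WittRing.kbar p)
  have c2 : SC (fun g => ((τ g : GL (Fin n) (SmallSimple.WittRing.A p)) :
      Matrix (Fin n) (Fin n) (SmallSimple.WittRing.A p))) := by
    refine SC.of_res (res_witt p) (SmallSimple.WittRing.irreducible_p p).ne_zero ?_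
    intro X hX
    apply c1 X
    intro g
    have h1 := hX g
    beta_reduce
    rw [← hτ g]
    exact h1
  have c3 : SC (fun g => (((τ g : GL (Fin n) (SmallSimple.WittRing.A p)) :
      Matrix (Fin n) (Fin n) (SmallSimple.WittRing.A p)).map ι)) := by
    let K := FractionRing (SmallSimple.WittRing.A p)
    let lK : K →+* ℂ := IsFractionRing.lift hι
    let _ : Algebra K ℂ := lK.toAlgebra
    have h1 := (SC.frac (K := K) c2).ext (L := ℂ)
    intro X hX
    apply h1 X
    intro g
    have h2 := hX g
    have h3 : ((((τ g : GL (Fin n) (SmallSimple.WittRing.A p)) :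
      Matrix (Fin n) (Fin n) (SmallSimple.WittRing.A p)).map (algebraMap _ K)).map (algebraMap K ℂ)) =
      (((τ g : GL (Fin n) (SmallSimple.WittRing.A p)) :
      Matrix (Fin n) (Fin n) (SmallSimple.WittRing.A p)).map ι) := by
      ext a b
      rw [Matrix.map_apply, Matrix.map_apply, Matrix.map_apply]
      exact IsFractionRing.lift_algebraMap hι _
    beta_reduce
    rw [h3]
    exact h2
  let f : P →* Matrix (Fin n) (Fin n) ℂ :=
    (ι.mapMatrix : Matrix (Fin n) (Fin n) (SmallSimple.WittRing.A p) →+* Matrix (Fin n) (Fin n) ℂ).toMonoidHom.comp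
      ((Units.coeHom _).comp τ)
  have hfv : ∀ g, f g = ((τ g : GL (Fin n) (SmallSimple.WittRing.A p)) :
      Matrix (Fin n) (Fin n) (SmallSimple.WittRing.A p)).map ι := fun g => rfl
  let ρ : Representation ℂ P (Fin n → ℂ) :=
    (Matrix.toLinAlgEquiv' : Matrix (Fin n) (Fin n) ℂ ≃ₐ[ℂ] _).toAlgHom.toRingHom.toMonoidHom.comp f
  have hρ : ∀ g, ρ g = Matrix.toLinAlgEquiv' (f g) := fun g => rfl
  have hnt : Nontrivial (Fin n → ℂ) := by
    have : Nonempty (Fin n) := ⟨⟨0, hn⟩⟩
    infer_instance
  refine ⟨ρ, ?_, ?_⟩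
  · apply Cfsg.Agent.H107.Spin.irr_of_scalar
    intro X hX
    obtain ⟨c, hc⟩ := c3 (Matrix.toLinAlgEquiv'.symm X) (by
      intro g
      beta_reduce
      rw [← hfv]
      apply Matrix.toLinAlgEquiv'.injective
      rw [map_mul, map_mul, AlgEquiv.apply_symm_apply, ← hρ]
      apply LinearMap.ext
      intro v
      exact hX g v)
    refine ⟨c, fun v => ?_⟩
    have h1 : X = Matrix.toLinAlgEquiv' (c • (1 : Matrix (Fin n) (Fin n) ℂ)) := by
      rw [← hc, AlgEquiv.apply_symm_apply]
    rw [h1, map_smul, map_one]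
    rfl
  · intro s N hs
    have hchar : ∀ g, ρ.character g = ι (Matrix.trace ((τ g : GL (Fin n) (SmallSimple.WittRing.A p)) :
      Matrix (Fin n) (Fin n) (SmallSimple.WittRing.A p))) := by
      intro g
      have h1 : ρ.character g = Matrix.trace (f g) := by
        change LinearMap.trace ℂ _ (Matrix.toLinAlgEquiv' (f g)) = _
        exact Matrix.trace_toLin'_eq (f g)
      rw [h1, hfv, Matrix.trace, Matrix.trace, map_sum]
      rfl
    have h1 : (s.map fun g => Matrix.trace ((τ g : GL (Fin n) (SmallSimple.WittRing.A p)) :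
      Matrix (Fin n) (Fin n) (SmallSimple.WittRing.A p))).sum = (N : SmallSimple.WittRing.A p) := by
      apply hι
      rw [map_multiset_sum, Multiset.map_map, map_intCast, ← hs]
      congr 1
      exact Multiset.map_congr rfl fun g _ => (hchar g).symm
    have h2 := congrArg (WittVector.constantCoeff (p := p) (R := SmallSimple.WittRing.kbar p)) h1
    rw [map_multiset_sum, Multiset.map_map, map_intCast] at h2
    apply j.injective
    rw [map_multiset_sum, Multiset.map_map, map_intCast, ← h2]
    congr 1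
    refine Multiset.map_congr rfl fun g _ => ?_
    have h3 := congrArg (fun x : GL (Fin n) (SmallSimple.WittRing.kbar p) =>
      Matrix.trace (x : Matrix (Fin n) (Fin n) (SmallSimple.WittRing.kbar p))) (hτ g)
    have h4 : Matrix.trace ((((τ g : GL (Fin n) (SmallSimple.WittRing.A p)) :
      Matrix (Fin n) (Fin n) (SmallSimple.WittRing.A p)).map
        (WittVector.constantCoeff (p := p) (R := SmallSimple.WittRing.kbar p)))) =
      Matrix.trace ((((σ g : Matrix.GeneralLinearGroup (Fin n) F) : Matrix (Fin n) (Fin n) F).map j)) := h3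
    rw [Function.comp_apply, Function.comp_apply]
    have h5 : WittVector.constantCoeff (p := p) (R := SmallSimple.WittRing.kbar p)
        (Matrix.trace ((τ g : GL (Fin n) (SmallSimple.WittRing.A p)) :
          Matrix (Fin n) (Fin n) (SmallSimple.WittRing.A p))) =
        Matrix.trace ((((τ g : GL (Fin n) (SmallSimple.WittRing.A p)) :
          Matrix (Fin n) (Fin n) (SmallSimple.WittRing.A p)).map
          (WittVector.constantCoeff (p := p) (R := SmallSimple.WittRing.kbar p)))) := by
      rw [Matrix.trace, Matrix.trace, map_sum]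
      rfl
    rw [h5, h4, Matrix.trace, Matrix.trace, map_sum]
    rfl

end Cfsg.Agent.H845.LiftIrr
end
end
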