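import Cfsg.Agent.H729.PairTool_m3
import Cfsg.Agent.H729.PairHS
import Cfsg.Agent.SigZeroHN.Main
import Cfsg.Agent.HN.A12Group
import Cfsg.Agent.HN.XSq
import Cfsg.Agent.HN.Upper
import Cfsg.Agent.H757.WkHSThree
import Cfsg.Agent.J2Type.FourSelfCent
import Cfsg.Agent.FastGrp
import Cfsg.Agent.Prune
set_option linter.all false

section
prune_inst 0x7f00000000000000000000000000000000000000000000000000000000000000000000000000000000000000000000000000000000000000000000000000000000000000000000000000000000000000003fffffffffffffffffffffffffffbeffbdffffffff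

-- part: H463/Sp/HN
section
set_option linter.all false
open scoped Cfsg.Agent.FastGrp

/-!
# The coprime pair in the Harada–Norton group

`x` a 7-cycle of a subgroup `A12`, `y` an element of order 4 of `A12` inverting `x`.  The Sylow 2-subgroups of `C(x)`
are four-groups, so `x` commutes with no element of order 4.
-/

set_option autoImplicit false

namespace Cfsg.Agent.H463.Sp.HN

open Cfsg Subgroup Equiv Cfsg.Agent.H463.Pair Cfsg.Agent.H729.PairBase
open scoped Pointwise

/-! ### Counting -/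

/-- A group with two commuting involutions, `8 ∤ |C|`, has no element of order 4. -/
theorem no_four {C : Type*} [Group C] [Finite C] (h8 : ¬ 8 ∣ Nat.card C) {v₁ v₂ : C} (h₁ : v₁ * v₁ = 1)
    (h₂ : v₂ * v₂ = 1) (hc : v₁ * v₂ = v₂ * v₁) (n₁ : v₁ ≠ 1) (n₂ : v₂ ≠ 1) (hne : v₁ ≠ v₂) (w : C)
    (hw : orderOf w = 4) : False := by
  have : Fact (Nat.Prime 2) := ⟨Nat.prime_two⟩
  have h4 : 4 ∣ Nat.card C := hw ▸ _root_.orderOf_dvd_natCard w
  have hfac : (Nat.card C).factorization 2 = 2 := by
    have h0 : Nat.card C ≠ 0 := Nat.card_pos.ne'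
    have ha : 2 ≤ (Nat.card C).factorization 2 :=
      (Nat.prime_two.pow_dvd_iff_le_factorization h0).1 (by rw [show (2 : ℕ) ^ 2 = 4 by norm_num]; exact h4)
    have hb : ¬ 3 ≤ (Nat.card C).factorization 2 := fun h =>
      h8 (by rw [show (8 : ℕ) = 2 ^ 3 by norm_num]; exact (Nat.prime_two.pow_dvd_iff_le_factorization h0).2 h)
    omega
  have hp : ∀ v : C, v * v = 1 → IsPGroup 2 (zpowers v) := by
    intro v hv
    rw [← pow_two] at hv
    rcases (Nat.dvd_prime Nat.prime_two).1 (orderOf_dvd_of_pow_eq_one hv) with h | h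
    · exact IsPGroup.of_card (n := 0) (by rw [Nat.card_zpowers, h, pow_zero])
    · exact IsPGroup.of_card (n := 1) (by rw [Nat.card_zpowers, h, pow_one])
  have hV : IsPGroup 2 (zpowers v₁ ⊔ zpowers v₂ : Subgroup C) := by
    refine (hp v₁ h₁).to_sup_of_normal_right' (hp v₂ h₂) ?_
    rw [zpowers_le]
    refine mem_normalizer_of_conj_pow (k := 1) ?_
    rw [hc, mul_inv_cancel_right, pow_one]
  obtain ⟨P, hP⟩ := hV.exists_le_sylow
  let R : Sylow 2 C := Sylow.ofCard (zpowers w) (by rw [hfac, Nat.card_zpowers, hw]; norm_num)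
  obtain ⟨g, hg⟩ := MulAction.exists_smul_eq C R P
  have key : ∀ v ∈ (P : Subgroup C), v * v = 1 → v ≠ 1 → v = g * w ^ 2 * g⁻¹ := by
    intro v hv hvv hv1
    have h3 : (MulAut.conj g • (R : Subgroup C)) = (P : Subgroup C) := by
      rw [← hg]; rfl
    rw [← h3, Subgroup.mem_smul_pointwise_iff_exists] at hv
    obtain ⟨s, hs, hsv⟩ := hv
    have hsv' : g * s * g⁻¹ = v := hsv
    have hs2 : s * s = 1 := by
      have : g * (s * s) * g⁻¹ = 1 := by
        rw [← hvv, ← hsv']; group
      rwa [mul_inv_eq_one, mul_eq_left] at this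
    have hs1 : s ≠ 1 := by
      rintro rfl
      apply hv1
      rw [← hsv']; group
    obtain ⟨n, rfl⟩ := mem_zpowers_iff.1 (show s ∈ zpowers w from hs)
    have h5 : (4 : ℤ) ∣ 2 * n := by
      rw [← zpow_add, ← two_mul] at hs2
      have := orderOf_dvd_iff_zpow_eq_one.2 hs2
      rwa [hw] at this
    have h6 : ¬ (4 : ℤ) ∣ n := by
      intro h
      apply hs1
      rw [← orderOf_dvd_iff_zpow_eq_one, hw]
      exact h
    obtain ⟨m, hm⟩ : ∃ m : ℤ, n = 4 * m + 2 := ⟨n / 4, by omega⟩
    have hw4 : w ^ (4 : ℤ) = 1 := by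
      have := pow_orderOf_eq_one w
      rw [hw] at this
      exact_mod_cast this
    have h7 : w ^ n = w ^ 2 := by
      rw [hm, zpow_add, zpow_mul, hw4, one_zpow, one_mul]
      exact_mod_cast rfl
    rw [← hsv', h7]
  exact hne ((key v₁ (hP (mem_sup_left (mem_zpowers v₁))) h₁ n₁).trans
    (key v₂ (hP (mem_sup_right (mem_zpowers v₂))) h₂ n₂).symm)

/-- In `2.L.2` with no element of order `2 r` in `L`, the centralizer of an element of order `r` has 2-part at most 4. -/
theorem two_part {H L : Type*} [Group H] [Finite H] [Group L] {r : ℕ} (hr : r.Prime) (hr2 : r ≠ 2)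
    (K : Subgroup H) (hK : K.index = 2) (hZ : Nat.card (center K) = 2) (e : K ⧸ center K ≃* L) (hL : NoTwo L r)
    {x : H} (hx : orderOf x = r) : ¬ 8 ∣ Nat.card (centralizer ({x} : Set H)) := by
  intro h8
  have hr' : ¬ 2 ∣ r := fun h => hr2 ((Nat.prime_dvd_prime_iff_eq Nat.prime_two hr).1 h).symm
  have hxK : x ∈ K := mem_of_index_two hK hr' hx
  have hn : K.Normal := Subgroup.normal_of_index_eq_two hK
  set C : Subgroup H := centralizer ({x} : Set H) with hC
  have h1 : K.relIndex C ∣ 2 := hK ▸ Subgroup.relIndex_dvd_index_of_normal K C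
  have h2 : Nat.card (K.subgroupOf C) * K.relIndex C = Nat.card C := Subgroup.card_mul_index (K.subgroupOf C)
  have h3 : 4 ∣ Nat.card (K.subgroupOf C) := by
    rcases (Nat.dvd_prime Nat.prime_two).1 h1 with h | h
    · rw [h, mul_one] at h2
      rw [h2]
      exact (by norm_num : 4 ∣ 8).trans h8
    · rw [h] at h2
      rw [← h2] at h8
      exact Nat.dvd_of_mul_dvd_mul_right (by norm_num : 0 < 2) (by simpa only [_root_.Nat.reduceMul] using h8)
  let D : Subgroup K := centralizer ({(⟨x, hxK⟩ : K)} : Set K)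
  have hD : Nat.card D = Nat.card (K.subgroupOf C) := by
    refine Nat.card_congr ⟨fun u => ⟨⟨u.1.1, ?_⟩, u.1.2⟩, fun u => ⟨⟨u.1.1, u.2⟩, ?_⟩, fun _ => rfl, fun _ => rfl⟩
    · have := mem_centralizer_singleton_iff.1 u.2
      exact mem_centralizer_singleton_iff.2 (congrArg Subtype.val this)
    · have := mem_centralizer_singleton_iff.1 u.1.2
      exact mem_centralizer_singleton_iff.2 (Subtype.ext this)
  rw [← hD] at h3
  let φ : K →* L := e.toMonoidHom.comp (QuotientGroup.mk' (center K))
  have hker : φ.ker = center K := by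
    ext u
    rw [MonoidHom.mem_ker]
    show e (QuotientGroup.mk' (center K) u) = 1 ↔ _
    rw [map_eq_one_iff e e.injective, ← MonoidHom.mem_ker, QuotientGroup.ker_mk']
  let f : D →* L := φ.comp D.subtype
  have hfk : Nat.card f.ker ∣ 2 := by
    rw [← hZ, ← hker]
    have h4 : f.ker = φ.ker.subgroupOf D := by
      ext u
      rfl
    rw [h4]
    let F : φ.ker.subgroupOf D →* φ.ker :=
      { toFun := fun u => ⟨u.1.1, u.2⟩
        map_one' := rfl
        map_mul' := fun _ _ => rfl }
    refine Subgroup.card_dvd_of_injective F ?_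
    intro u v huv
    have := congrArg (fun z : φ.ker => (z : K)) huv
    exact Subtype.ext (Subtype.ext this)
  have hcard : Nat.card f.ker * Nat.card f.range = Nat.card D := by
    rw [← Subgroup.index_ker]
    exact Subgroup.card_mul_index f.ker
  have h5 : 2 ∣ Nat.card f.range := by
    rcases (Nat.dvd_prime Nat.prime_two).1 hfk with h | h
    · rw [h, one_mul] at hcard
      rw [hcard]
      exact (by norm_num : 2 ∣ 4).trans h3
    · rw [h] at hcard
      rw [← hcard] at h3
      exact Nat.dvd_of_mul_dvd_mul_left (by norm_num : 0 < 2) (by simpa only [_root_.Nat.reduceMul, _root_.MonoidHom.mem_range, _root_.Subtype.exists] using h3)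
  have : Fact (Nat.Prime 2) := ⟨Nat.prime_two⟩
  have hfin : Finite f.range := Finite.of_surjective f.rangeRestrict f.rangeRestrict_surjective
  obtain ⟨u, hu⟩ := exists_prime_orderOf_dvd_card' 2 h5
  obtain ⟨v, hv⟩ := u.2
  refine hL (u : L) (φ ⟨x, hxK⟩) (by rw [Subgroup.orderOf_coe, hu]) ?_ ?_
  · have h6 : orderOf (φ ⟨x, hxK⟩) ∣ r := by
      rw [← hx, ← Subgroup.orderOf_mk x hxK]
      exact orderOf_map_dvd φ _
    rcases (Nat.dvd_prime hr).1 h6 with h | h
    · exfalso
      rw [orderOf_eq_one_iff, ← MonoidHom.mem_ker, hker] at h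
      have h7 := Subgroup.orderOf_dvd_natCard _ h
      rw [hZ, Subgroup.orderOf_mk, hx] at h7
      exact hr2 ((Nat.prime_dvd_prime_iff_eq hr Nat.prime_two).1 h7)
    · exact h
  · rw [← hv]
    have h6 := mem_centralizer_singleton_iff.1 v.2
    show φ v * φ ⟨x, hxK⟩ = φ ⟨x, hxK⟩ * φ v
    rw [← map_mul, ← map_mul, h6]

/-! ### The centralizer of an element of order 7 -/

open Cfsg.Agent.HN.NormalH Cfsg.Agent.KFacts.HN.Classes

theorem finite_HN : Finite Spor.HN := Nat.finite_of_card_ne_zero (by rw [card_HN]; norm_num)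

theorem not_eight_H {x : H} (hx : orderOf x = 7) : ¬ 8 ∣ Nat.card (centralizer ({x} : Set H)) := by
  have := finite_HN
  obtain ⟨K, -, hK, hZ, ⟨e⟩, -⟩ := exists_double_cover_H Cfsg.Agent.HN.Upper.card_H0_le.1
    Cfsg.Agent.HN.Upper.card_H0_le.2 Cfsg.Agent.HN.XSq.hx_sq_ne
  obtain ⟨D⟩ := Cfsg.Agent.KFacts.HS.exists_mod (L := Spor.HS) ⟨MulEquiv.refl _⟩
  exact two_part (by norm_num) (by norm_num) K hK hZ e (H729.PairHS.noTwo D) hx

theorem not_eight {g : Spor.HN} (hg : orderOf g = 7) : ¬ 8 ∣ Nat.card (centralizer ({g} : Set Spor.HN)) := by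
  have := finite_HN
  intro h8
  have : Fact (Nat.Prime 2) := ⟨Nat.prime_two⟩
  obtain ⟨P, hP⟩ := Sylow.exists_subgroup_card_pow_prime 2 (G := centralizer ({g} : Set Spor.HN)) (n := 3)
    (by rw [show (2 : ℕ) ^ 3 = 8 by norm_num]; exact h8)
  have hP2 : IsPGroup 2 P := IsPGroup.of_card hP
  have hnt : Nontrivial P := Finite.one_lt_card_iff_nontrivial.1 (by rw [hP]; norm_num)
  have hct := hP2.center_nontrivial
  have h2 : 2 ∣ Nat.card (center P) := by
    obtain ⟨n, hn⟩ := (IsPGroup.iff_card).1 (hP2.to_subgroup (center P))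
    have : Nat.card (center P) ≠ 1 := (Finite.one_lt_card_iff_nontrivial.2 hct).ne'
    rw [hn]
    refine dvd_pow_self 2 ?_
    rintro rfl
    exact this (by rw [hn, pow_zero])
  obtain ⟨u, hu⟩ := exists_prime_orderOf_dvd_card' 2 h2
  have hu2 : orderOf (u.1.1.1 : Spor.HN) = 2 := by
    rw [Subgroup.orderOf_coe, Subgroup.orderOf_coe, Subgroup.orderOf_coe, hu]
  have hug : Commute (u.1.1.1 : Spor.HN) g := mem_centralizer_singleton_iff.1 u.1.1.2
  rcases Cfsg.Agent.SigZeroHN.card_centralizer_cases hu2 with ⟨h, -⟩ | ⟨-, h⟩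
  swap
  · have h7 := dvd_card_centralizer (x := g) (y := (u.1.1.1 : Spor.HN)) (r := 7) (by rw [hg]) hug.symm
    rw [h] at h7
    norm_num at h7
  · obtain ⟨c, hc⟩ := isConj_iff.1 h
    -- conjugate into `H`
    have hin : ∀ w : Spor.HN, Commute w (u.1.1.1 : Spor.HN) → c * w * c⁻¹ ∈ H := by
      intro w hw
      rw [← centralizer_τ, mem_centralizer_singleton_iff, ← hc]
      calc c * w * c⁻¹ * (c * (u.1.1.1 : Spor.HN) * c⁻¹) = c * (w * (u.1.1.1 : Spor.HN)) * c⁻¹ := by group
        _ = c * ((u.1.1.1 : Spor.HN) * w) * c⁻¹ := by rw [hw.eq]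
        _ = c * (u.1.1.1 : Spor.HN) * c⁻¹ * (c * w * c⁻¹) := by group
    have hgH : c * g * c⁻¹ ∈ H := hin g hug.symm
    have hPc : ∀ p : P, Commute (p.1.1 : Spor.HN) (u.1.1.1 : Spor.HN) := by
      intro p
      have h3 := mem_center_iff.1 u.2 p
      exact congrArg (fun z : P => (z.1.1 : Spor.HN)) h3
    have hg' : orderOf (⟨c * g * c⁻¹, hgH⟩ : H) = 7 := by
      rw [Subgroup.orderOf_mk, ← hg]
      exact orderOf_injective (MulAut.conj c).toMonoidHom (MulAut.conj c).injective g
    refine not_eight_H hg' ?_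
    rw [show (8 : ℕ) = 2 ^ 3 by norm_num, ← hP]
    let F : P →* centralizer ({(⟨c * g * c⁻¹, hgH⟩ : H)} : Set H) :=
      { toFun := fun p => ⟨⟨c * p.1.1 * c⁻¹, hin _ (hPc p)⟩, by
          rw [mem_centralizer_singleton_iff]
          apply Subtype.ext
          have h3 : (p.1.1 : Spor.HN) * g = g * p.1.1 := mem_centralizer_singleton_iff.1 p.1.2
          show c * p.1.1 * c⁻¹ * (c * g * c⁻¹) = c * g * c⁻¹ * (c * p.1.1 * c⁻¹)
          calc c * p.1.1 * c⁻¹ * (c * g * c⁻¹) = c * (p.1.1 * g) * c⁻¹ := by group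
            _ = c * (g * p.1.1) * c⁻¹ := by rw [h3]
            _ = c * g * c⁻¹ * (c * p.1.1 * c⁻¹) := by group⟩
        map_one' := by
          apply Subtype.ext
          apply Subtype.ext
          show c * 1 * c⁻¹ = 1
          group
        map_mul' := by
          intro p q
          apply Subtype.ext
          apply Subtype.ext
          show c * (p.1.1 * q.1.1) * c⁻¹ = c * p.1.1 * c⁻¹ * (c * q.1.1 * c⁻¹)
          group }
    refine Subgroup.card_dvd_of_injective F ?_
    intro p q hpq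
    have h3 : c * p.1.1 * c⁻¹ = c * q.1.1 * c⁻¹ := congrArg (fun z => ((z : H) : Spor.HN)) (congrArg Subtype.val hpq)
    exact Subtype.ext (Subtype.ext (mul_left_cancel (mul_right_cancel h3)))

/-! ### The alternating group -/

/-- the 7-cycle -/
def a : Perm (Fin 12) := c[(0 : Fin 12), 1, 2, 3, 4, 5, 6]

/-- inverts the 7-cycle -/
def b : Perm (Fin 12) := c[(1 : Fin 12), 6] * c[(2 : Fin 12), 5] * c[(3 : Fin 12), 4] * c[(7 : Fin 12), 8, 9, 10]

/-- involutions commuting with the 7-cycle -/
def p : Perm (Fin 12) := c[(7 : Fin 12), 8] * c[(9 : Fin 12), 10]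

/-- involutions commuting with the 7-cycle -/
def q : Perm (Fin 12) := c[(7 : Fin 12), 9] * c[(8 : Fin 12), 10]

theorem haA : a ∈ alternatingGroup (Fin 12) := by rw [Perm.mem_alternatingGroup]; decide +kernel
theorem hbA : b ∈ alternatingGroup (Fin 12) := by rw [Perm.mem_alternatingGroup]; decide +kernel
theorem hpA : p ∈ alternatingGroup (Fin 12) := by rw [Perm.mem_alternatingGroup]; decide +kernel
theorem hqA : q ∈ alternatingGroup (Fin 12) := by rw [Perm.mem_alternatingGroup]; decide +kernel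
theorem ha7 : a ^ 7 = 1 := by decide +kernel
theorem ha1 : a ≠ 1 := by decide +kernel
theorem hb4 : b ^ 4 = 1 := by decide +kernel
theorem hb2 : b ^ 2 ≠ 1 := by decide +kernel
theorem hab : b * a * b⁻¹ = a⁻¹ := by decide +kernel
theorem hpa : p * a = a * p := by decide +kernel
theorem hqa : q * a = a * q := by decide +kernel
theorem hp2 : p * p = 1 := by decide +kernel
theorem hq2 : q * q = 1 := by decide +kernel
theorem hpq : p * q = q * p := by decide +kernel
theorem hp1 : p ≠ 1 := by decide +kernel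
theorem hq1 : q ≠ 1 := by decide +kernel
theorem hpq' : p ≠ q := by decide +kernel

/-- in the alternating group -/
def A : alternatingGroup (Fin 12) := ⟨a, haA⟩
/-- in the alternating group -/
def B : alternatingGroup (Fin 12) := ⟨b, hbA⟩
/-- in the alternating group -/
def P : alternatingGroup (Fin 12) := ⟨p, hpA⟩
/-- in the alternating group -/
def Q : alternatingGroup (Fin 12) := ⟨q, hqA⟩

theorem A7 : A ^ 7 = 1 := Subtype.ext ha7
theorem A1 : A ≠ 1 := fun h => ha1 ((congrArg Subtype.val h :))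
theorem B4 : B ^ 4 = 1 := Subtype.ext hb4
theorem B2 : B ^ 2 ≠ 1 := by
  intro h
  have h1 : ((B ^ 2 : alternatingGroup (Fin 12)) : Perm (Fin 12)) = 1 := by rw [h]; rfl
  rw [Subgroup.coe_pow] at h1
  exact hb2 h1
theorem AB : B * A * B⁻¹ = A⁻¹ := Subtype.ext hab
theorem PA : P * A = A * P := Subtype.ext hpa
theorem QA : Q * A = A * Q := Subtype.ext hqa
theorem P2 : P * P = 1 := Subtype.ext hp2
theorem Q2 : Q * Q = 1 := Subtype.ext hq2
theorem PQ : P * Q = Q * P := Subtype.ext hpq
theorem P1 : P ≠ 1 := fun h => hp1 (congrArg Subtype.val h)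
theorem Q1 : Q ≠ 1 := fun h => hq1 (congrArg Subtype.val h)
theorem PQ' : P ≠ Q := fun h => hpq' (congrArg Subtype.val h)

attribute [irreducible] A B P Q

theorem pairN_model : PairN Spor.HN := by
  have := finite_HN
  have : IsSimpleGroup Spor.HN := Cfsg.Agent.S1701.result.1
  obtain ⟨K, ⟨f⟩⟩ := Cfsg.Agent.HN.A12Group.exists_alternating
  let j : alternatingGroup (Fin 12) →* Spor.HN := K.subtype.comp f.symm.toMonoidHom
  have hj : Function.Injective j := K.subtype_injective.comp f.symm.injective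
  have hj1 : ∀ g, g ≠ 1 → j g ≠ 1 := fun g hg h => hg (hj (h.trans (map_one j).symm))
  let x : Spor.HN := j A
  let y : Spor.HN := j B
  have hx : orderOf x = 7 := by
    have : Fact (Nat.Prime 7) := ⟨by norm_num⟩
    rw [orderOf_injective j hj]
    exact orderOf_eq_prime A7 A1
  have hy : orderOf y = 4 := by
    rw [orderOf_injective j hj]
    have : Fact (Nat.Prime 2) := ⟨Nat.prime_two⟩
    exact orderOf_eq_prime_pow (p := 2) (n := 1) (by rw [pow_one]; exact B2) B4
  have hxy : y * x * y⁻¹ = x⁻¹ := by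
    show j B * j A * (j B)⁻¹ = (j A)⁻¹
    rw [← map_mul, ← map_inv, ← map_mul, ← map_inv, AB]
  have hPx : j P * x = x * j P := by
    show j P * j A = j A * j P
    rw [← map_mul, ← map_mul, PA]
  have hQx : j Q * x = x * j Q := by
    show j Q * j A = j A * j Q
    rw [← map_mul, ← map_mul, QA]
  have key : ∀ w : Spor.HN, orderOf w = 4 → ¬ Commute w x := by
    intro w hw hc
    refine no_four (not_eight hx) (v₁ := ⟨j P, mem_centralizer_singleton_iff.2 hPx⟩)
      (v₂ := ⟨j Q, mem_centralizer_singleton_iff.2 hQx⟩) (Subtype.ext ?_) (Subtype.ext ?_) (Subtype.ext ?_) ?_ ?_ ?_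
      (⟨w, mem_centralizer_singleton_iff.2 hc⟩) ?_
    · show j P * j P = 1
      rw [← map_mul, P2, map_one]
    · show j Q * j Q = 1
      rw [← map_mul, Q2, map_one]
    · show j P * j Q = j Q * j P
      rw [← map_mul, ← map_mul, PQ]
    · exact fun h => hj1 _ P1 (congrArg Subtype.val h)
    · exact fun h => hj1 _ Q1 (congrArg Subtype.val h)
    · intro h
      have h1 := congrArg (fun z : centralizer ({x} : Set Spor.HN) => (z : Spor.HN)) h
      have h2 : j P = j Q := h1
      exact PQ' (hj h2)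
    · rw [Subgroup.orderOf_mk, hw]
  refine PairN.of_cent (r := 7) (by norm_num) (by norm_num) hx (y := y) ?_ ⟨2, by rw [hy]; norm_num⟩ ?_ ?_
  · intro h
    rw [h, orderOf_one] at hy
    omega
  · refine mem_normalizer_of_conj_pow (k := 6) ?_
    rw [hxy]
    refine inv_eq_of_mul_eq_one_right ?_
    have h7 := pow_orderOf_eq_one x
    rw [hx] at h7
    rw [← pow_succ']
    exact h7
  · -- the elements of order 7 generate conjugate subgroups
    intro g hg hc
    have h49 : ¬ 7 ^ 2 ∣ Nat.card Spor.HN := by rw [card_HN]; norm_num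
    have : Fact (Nat.Prime 7) := ⟨by norm_num⟩
    have h1 : 7 ∣ Nat.card Spor.HN := by rw [card_HN]; norm_num
    have hfac : (Nat.card Spor.HN).factorization 7 = 1 := by
      have h0 : Nat.card Spor.HN ≠ 0 := Nat.card_pos.ne'
      have ha : 1 ≤ (Nat.card Spor.HN).factorization 7 := ((by norm_num : Nat.Prime 7).dvd_iff_one_le_factorization h0).1 h1
      have hb : ¬ 2 ≤ (Nat.card Spor.HN).factorization 7 := fun h =>
        h49 (((by norm_num : Nat.Prime 7).pow_dvd_iff_le_factorization h0).2 h)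
      omega
    let P : Sylow 7 Spor.HN := Sylow.ofCard (zpowers g) (by rw [hfac, Nat.card_zpowers, hg]; norm_num)
    let R : Sylow 7 Spor.HN := Sylow.ofCard (zpowers x) (by rw [hfac, Nat.card_zpowers, hx]; norm_num)
    obtain ⟨c, hcP⟩ := MulAction.exists_smul_eq Spor.HN P R
    have h3 : (MulAut.conj c • (zpowers g : Subgroup Spor.HN)) = zpowers x := by
      have : (MulAut.conj c • (P : Subgroup Spor.HN)) = (R : Subgroup Spor.HN) := by rw [← hcP]; rfl
      exact this
    have h4 : x ∈ MulAut.conj c • (zpowers g : Subgroup Spor.HN) := by rw [h3]; exact mem_zpowers x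
    rw [Subgroup.mem_smul_pointwise_iff_exists] at h4
    obtain ⟨s, hs, hsx⟩ := h4
    obtain ⟨n, rfl⟩ := mem_zpowers_iff.1 hs
    refine key (c * y * c⁻¹) ?_ ?_
    · rw [← hy]
      exact orderOf_injective (MulAut.conj c).toMonoidHom (MulAut.conj c).injective y
    · have h5 : c * g ^ n * c⁻¹ = x := hsx
      have h6 : Commute y (g ^ n) := hc.symm.zpow_right n
      rw [← h5]
      show c * y * c⁻¹ * (c * g ^ n * c⁻¹) = c * g ^ n * c⁻¹ * (c * y * c⁻¹)
      calc c * y * c⁻¹ * (c * g ^ n * c⁻¹) = c * (y * g ^ n) * c⁻¹ := by group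
        _ = c * (g ^ n * y) * c⁻¹ := by rw [h6.eq]
        _ = c * g ^ n * c⁻¹ * (c * y * c⁻¹) := by group

theorem pairN {K : Type*} [Group K] (h : Spor.IsoHN K) : PairN K := by
  obtain ⟨e⟩ := h
  exact pairN_model.congr e.symm

end Cfsg.Agent.H463.Sp.HN
end

-- part: H845/HNSevenA
section
set_option linter.all false
open scoped Cfsg.Agent.FastGrp

/-!
# The centralizer of an element of order 7 in the Harada–Norton group, part 1 (helper845)

* `hs_seven` : in `HS` the centralizer of an element of order 7 has order 7;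
* `card_dvd_H` : in `2.HS.2 ≤ HN` it has order dividing 28;
* `card_inf` : an involution and an element of order 7 of `HN` which commute have a common centralizer of order dividing 28.
-/

set_option autoImplicit false

namespace Cfsg.Agent.H845.HNSevenA

open Cfsg Subgroup Equiv Cfsg.Agent.H729.PairBase
open scoped Pointwise

universe u

theorem hs_seven {L : Type u} [Group L] (h : Spor.IsoHS L) {y : L} (hy : orderOf y = 7) :
    Nat.card (centralizer ({y} : Set L)) = 7 := by
  obtain ⟨D, ψ, R⟩ := Cfsg.Agent.H904.HSCent.exists_rep h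
  have hfin := D.finite
  obtain ⟨x, hx, hle⟩ := R.exists_seven
  have hno := Cfsg.Agent.H729.PairHS.noTwo D
  have h49 : ¬ 7 ^ 2 ∣ Nat.card L := by
    rw [D.card]; norm_num
  rw [card_cent_of_one (by norm_num : Nat.Prime 7) h49 hx hy]
  have h2 := hno.odd_cent hx
  have h7 : 7 ∣ Nat.card (centralizer ({x} : Set L)) := by
    have h3 : x ∈ centralizer ({x} : Set L) := mem_centralizer_singleton_iff.2 rfl
    have h4 := orderOf_dvd_natCard (⟨x, h3⟩ : centralizer ({x} : Set L))
    rwa [Subgroup.orderOf_mk, hx] at h4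
  have hpos : 0 < Nat.card (centralizer ({x} : Set L)) := Nat.card_pos
  obtain ⟨m, hm⟩ := h7
  rw [hm] at hle h2 hpos ⊢
  have h5 : m ≤ 2 := by omega
  have h6 : 0 < m := by omega
  interval_cases m
  · rfl
  · exact absurd (by norm_num) h2

/-- In `2.L.2` the centralizer of an element of order `r` has order dividing `4 n`. -/
theorem card_dvd {H L : Type*} [Group H] [Finite H] [Group L] [Finite L] {r n : ℕ} (hr : r.Prime) (hr2 : r ≠ 2)
    (K : Subgroup H) (hK : K.index = 2) (hZ : Nat.card (center K) = 2) (e : K ⧸ center K ≃* L)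
    (hL : ∀ y : L, orderOf y = r → Nat.card (centralizer ({y} : Set L)) = n)
    {x : H} (hx : orderOf x = r) : Nat.card (centralizer ({x} : Set H)) ∣ 4 * n := by
  have hr' : ¬ 2 ∣ r := fun h => hr2 ((Nat.prime_dvd_prime_iff_eq Nat.prime_two hr).1 h).symm
  have hxK : x ∈ K := Cfsg.Agent.H463.Sp.mem_of_index_two hK hr' hx
  have hn : K.Normal := Subgroup.normal_of_index_eq_two hK
  set C : Subgroup H := centralizer ({x} : Set H) with hC
  have h1 : K.relIndex C ∣ 2 := hK ▸ Subgroup.relIndex_dvd_index_of_normal K C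
  have h2 : Nat.card (K.subgroupOf C) * K.relIndex C = Nat.card C := Subgroup.card_mul_index (K.subgroupOf C)
  let D : Subgroup K := centralizer ({(⟨x, hxK⟩ : K)} : Set K)
  have hD : Nat.card D = Nat.card (K.subgroupOf C) := by
    refine Nat.card_congr ⟨fun u => ⟨⟨u.1.1, ?_⟩, u.1.2⟩, fun u => ⟨⟨u.1.1, u.2⟩, ?_⟩, fun _ => rfl, fun _ => rfl⟩
    · have := mem_centralizer_singleton_iff.1 u.2
      exact mem_centralizer_singleton_iff.2 (congrArg Subtype.val this)
    · have := mem_centralizer_singleton_iff.1 u.1.2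
      exact mem_centralizer_singleton_iff.2 (Subtype.ext this)
  let φ : K →* L := e.toMonoidHom.comp (QuotientGroup.mk' (center K))
  have hker : φ.ker = center K := by
    ext u
    rw [MonoidHom.mem_ker]
    show e (QuotientGroup.mk' (center K) u) = 1 ↔ _
    rw [map_eq_one_iff e e.injective, ← MonoidHom.mem_ker, QuotientGroup.ker_mk']
  let f : D →* L := φ.comp D.subtype
  have hfk : Nat.card f.ker ∣ 2 := by
    rw [← hZ, ← hker]
    have h4 : f.ker = φ.ker.subgroupOf D := by
      ext u
      rfl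
    rw [h4]
    let F : φ.ker.subgroupOf D →* φ.ker :=
      { toFun := fun u => ⟨u.1.1, u.2⟩
        map_one' := rfl
        map_mul' := fun _ _ => rfl }
    refine Subgroup.card_dvd_of_injective F ?_
    intro u v huv
    have := congrArg (fun z : φ.ker => (z : K)) huv
    exact Subtype.ext (Subtype.ext this)
  have hcard : Nat.card f.ker * Nat.card f.range = Nat.card D := by
    rw [← Subgroup.index_ker]
    exact Subgroup.card_mul_index f.ker
  have hxo : orderOf (φ ⟨x, hxK⟩) = r := by
    have h6 : orderOf (φ ⟨x, hxK⟩) ∣ r := by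
      rw [← hx, ← Subgroup.orderOf_mk x hxK]
      exact orderOf_map_dvd φ _
    rcases (Nat.dvd_prime hr).1 h6 with h | h
    · exfalso
      rw [orderOf_eq_one_iff, ← MonoidHom.mem_ker, hker] at h
      have h7 := Subgroup.orderOf_dvd_natCard _ h
      rw [hZ, Subgroup.orderOf_mk, hx] at h7
      exact hr2 ((Nat.prime_dvd_prime_iff_eq hr Nat.prime_two).1 h7)
    · exact h
  have hrange : f.range ≤ centralizer ({φ ⟨x, hxK⟩} : Set L) := by
    rintro _ ⟨v, rfl⟩
    rw [mem_centralizer_singleton_iff]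
    have h6 := mem_centralizer_singleton_iff.1 v.2
    show φ v * φ ⟨x, hxK⟩ = φ ⟨x, hxK⟩ * φ v
    rw [← map_mul, ← map_mul, h6]
  have h5 : Nat.card f.range ∣ n := by
    rw [← hL _ hxo]
    exact Subgroup.card_dvd_of_le hrange
  rw [← h2, ← hD, ← hcard]
  obtain ⟨a, ha⟩ := h1
  obtain ⟨b, hb⟩ := hfk
  obtain ⟨c, hc⟩ := h5
  refine ⟨a * b * c, ?_⟩
  calc 4 * n = 2 * 2 * n := by ring
    _ = (K.relIndex C * a) * (Nat.card f.ker * b) * (Nat.card f.range * c) := by rw [← ha, ← hb, ← hc]
    _ = _ := by ring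

open Cfsg.Agent.HN.NormalH Cfsg.Agent.KFacts.HN.Classes

theorem card_dvd_H {x : H} (hx : orderOf x = 7) : Nat.card (centralizer ({x} : Set H)) ∣ 28 := by
  have := Cfsg.Agent.H463.Sp.HN.finite_HN
  obtain ⟨K, -, hK, hZ, ⟨e⟩, -⟩ := exists_double_cover_H Cfsg.Agent.HN.Upper.card_H0_le.1
    Cfsg.Agent.HN.Upper.card_H0_le.2 Cfsg.Agent.HN.XSq.hx_sq_ne
  have hf : Finite Spor.HS := by
    obtain ⟨D⟩ := Cfsg.Agent.KFacts.HS.exists_mod (L := Spor.HS) ⟨MulEquiv.refl _⟩
    exact D.finite
  exact card_dvd (n := 7) (by norm_num) (by norm_num) K hK hZ e (fun y hy => hs_seven ⟨MulEquiv.refl _⟩ hy) hx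

/-- commuting elements of orders 7 and 2 of `HN` -/
theorem card_inf {g u : Spor.HN} (hg : orderOf g = 7) (hu : orderOf u = 2) (hug : Commute u g) :
    Nat.card ↥(centralizer ({g} : Set Spor.HN) ⊓ centralizer ({u} : Set Spor.HN)) ∣ 28 := by
  have := Cfsg.Agent.H463.Sp.HN.finite_HN
  rcases Cfsg.Agent.SigZeroHN.card_centralizer_cases hu with ⟨h, -⟩ | ⟨-, h⟩
  swap
  · have h7 := Cfsg.Agent.H463.Pair.dvd_card_centralizer (x := g) (y := u) (r := 7) (by rw [hg]) hug.symm
    rw [h] at h7
    norm_num at h7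
  · obtain ⟨c, hc⟩ := isConj_iff.1 h
    -- conjugate into `H`
    have hin : ∀ w : Spor.HN, Commute w u → c * w * c⁻¹ ∈ H := by
      intro w hw
      rw [← centralizer_τ, mem_centralizer_singleton_iff, ← hc]
      calc c * w * c⁻¹ * (c * u * c⁻¹) = c * (w * u) * c⁻¹ := by group
        _ = c * (u * w) * c⁻¹ := by rw [hw.eq]
        _ = c * u * c⁻¹ * (c * w * c⁻¹) := by group
    have hgH : c * g * c⁻¹ ∈ H := hin g hug.symm
    have hg' : orderOf (⟨c * g * c⁻¹, hgH⟩ : H) = 7 := by
      rw [Subgroup.orderOf_mk, ← hg]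
      exact orderOf_injective (MulAut.conj c).toMonoidHom (MulAut.conj c).injective g
    refine dvd_trans ?_ (card_dvd_H hg')
    let F : ↥(centralizer ({g} : Set Spor.HN) ⊓ centralizer ({u} : Set Spor.HN)) →*
        centralizer ({(⟨c * g * c⁻¹, hgH⟩ : H)} : Set H) :=
      { toFun := fun p => ⟨⟨c * p.1 * c⁻¹, hin _ (mem_centralizer_singleton_iff.1 p.2.2)⟩, by
          rw [mem_centralizer_singleton_iff]
          apply Subtype.ext
          have h3 : (p.1 : Spor.HN) * g = g * p.1 := mem_centralizer_singleton_iff.1 p.2.1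
          show c * p.1 * c⁻¹ * (c * g * c⁻¹) = c * g * c⁻¹ * (c * p.1 * c⁻¹)
          calc c * p.1 * c⁻¹ * (c * g * c⁻¹) = c * (p.1 * g) * c⁻¹ := by group
            _ = c * (g * p.1) * c⁻¹ := by rw [h3]
            _ = c * g * c⁻¹ * (c * p.1 * c⁻¹) := by group⟩
        map_one' := by
          apply Subtype.ext
          apply Subtype.ext
          show c * 1 * c⁻¹ = 1
          group
        map_mul' := by
          intro p q
          apply Subtype.ext
          apply Subtype.ext
          show c * (p.1 * q.1) * c⁻¹ = c * p.1 * c⁻¹ * (c * q.1 * c⁻¹)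
          group }
    refine Subgroup.card_dvd_of_injective F ?_
    intro p q hpq
    have h3 : c * p.1 * c⁻¹ = c * q.1 * c⁻¹ := congrArg (fun z => ((z : H) : Spor.HN)) (congrArg Subtype.val hpq)
    exact Subtype.ext (mul_left_cancel (mul_right_cancel h3))

end Cfsg.Agent.H845.HNSevenA
end
end
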