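import Mathlib
import Cfsg.Agent.J2Type.FourSelfCent
import Cfsg.Agent.H845.HNSevenA
import Cfsg.Agent.CpAutHN.Second
import Cfsg.Agent.Lib.FastPerm
import Cfsg.Agent.FastGrp
import Cfsg.Agent.Prune
set_option linter.all false
prune_inst 0x7f00000000000000000000000000000000000000000000000000000000000000000000000000000000000000000000000000000000000000000000000000000000000000000000000000000000000000003fffffffffffffffffffffffffffbeffbdffffffff
open scoped Cfsg.Agent.FastGrp

-- part: H845/HNSevenAbs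
section
/-!
# Groups with a central element of odd order and self-centralizing four-group modulo it (helper845)
-/

set_option autoImplicit false

namespace Cfsg.Agent.H845.HNSevenAbs

open Subgroup Cfsg.Agent.J2Type.FourSelfCent

variable {C : Type*} [Group C] [Finite C]

/-- `x` central of odd order `r`, `U` a four-subgroup such that `|C(u)| = 4 r` for each involution `u` of `U`:
`|C|` is `4 r`, `12 r` or `60 r`. -/
theorem card_cases {r : ℕ} (hr : Odd r) {x : C} (hx : orderOf x = r) (hc : ∀ g : C, g * x = x * g) (U : Subgroup C)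
    (h4 : Nat.card U = 4) (hsq : ∀ u ∈ U, u * u = 1)
    (hcent : ∀ u ∈ U, u ≠ 1 → Nat.card (centralizer ({u} : Set C)) ∣ 4 * r) :
    (zpowers x).Normal ∧ (Nat.card (C ⧸ zpowers x) = 4 ∨ Nat.card (C ⧸ zpowers x) = 12 ∨ Nat.card (C ⧸ zpowers x) = 60) := by
  have hn : (zpowers x).Normal := by
    constructor
    intro n hn g
    obtain ⟨k, rfl⟩ := mem_zpowers_iff.1 hn
    rw [((show Commute g x from hc g).zpow_right k).eq, mul_inv_cancel_right]
    exact zpow_mem (mem_zpowers x) k
  refine ⟨hn, ?_⟩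
  have hr0 : 0 < r := hx ▸ orderOf_pos x
  have hsqx : ∀ y ∈ zpowers x, y * y = 1 → y = 1 := by
    intro y hy h2
    have h1 : orderOf y ∣ 2 := orderOf_dvd_of_pow_eq_one (by rw [pow_two, h2])
    have h3 : orderOf y ∣ r := by
      rw [← hx]
      exact orderOf_dvd_of_mem_zpowers hy
    have h5 : orderOf y ∣ 1 := by
      have h6 : Nat.Coprime 2 r := by
        rw [Nat.Coprime]
        obtain ⟨m, hm⟩ := hr
        rw [hm]
        norm_num
      rw [← h6]
      exact Nat.dvd_gcd h1 h3
    exact orderOf_eq_one_iff.1 (Nat.dvd_one.1 h5)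
  have hcomm : ∀ u ∈ U, ∀ v ∈ U, u * v = v * u := by
    intro u hu v hv
    have h1 := hsq _ (U.mul_mem hu hv)
    have h2 := hsq _ hu
    have h3 := hsq _ hv
    have : u * v = (u * v)⁻¹ := eq_inv_of_mul_eq_one_left h1
    rw [this, mul_inv_rev, ← eq_inv_of_mul_eq_one_left h2, ← eq_inv_of_mul_eq_one_left h3]
  let π := QuotientGroup.mk' (zpowers x)
  have hker : ∀ u ∈ U, π u = 1 → u = 1 := by
    intro u hu h
    exact hsqx u ((QuotientGroup.eq_one_iff u).1 h) (hsq u hu)
  have hinj : Function.Injective (π.comp U.subtype) := by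
    rw [injective_iff_map_eq_one]
    intro u hu
    exact Subtype.ext (hker u u.2 hu)
  -- the centralizer of an involution of `U`
  have hC : ∀ u ∈ U, u ≠ 1 → ∀ g : C, g * u = u * g → π g ∈ U.map π := by
    intro u hu hu1 g hg
    have hle : U ⊔ zpowers x ≤ centralizer ({u} : Set C) := by
      rw [sup_le_iff]
      refine ⟨fun v hv => mem_centralizer_singleton_iff.2 (hcomm v hv u hu), ?_⟩
      rw [zpowers_le]
      exact mem_centralizer_singleton_iff.2 (hc u).symm
    have hd1 : 4 ∣ Nat.card ↥(U ⊔ zpowers x) := h4 ▸ card_dvd_of_le le_sup_left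
    have hd2 : r ∣ Nat.card ↥(U ⊔ zpowers x) := by
      have := card_dvd_of_le (le_sup_right : zpowers x ≤ U ⊔ zpowers x)
      rwa [Nat.card_zpowers, hx] at this
    have hco : Nat.Coprime 4 r := by
      have h6 : Nat.Coprime 2 r := by
        rw [Nat.Coprime]
        obtain ⟨m, hm⟩ := hr
        rw [hm]
        norm_num
      exact Nat.Coprime.pow_left 2 h6
    have hd3 : 4 * r ∣ Nat.card ↥(U ⊔ zpowers x) := hco.mul_dvd_of_dvd_of_dvd hd1 hd2
    have heq : U ⊔ zpowers x = centralizer ({u} : Set C) :=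
      eq_of_le_of_card_ge hle ((Nat.le_of_dvd (by omega) (hcent u hu hu1)).trans (Nat.le_of_dvd Nat.card_pos hd3))
    have hgm : g ∈ U ⊔ zpowers x := by
      rw [heq]
      exact mem_centralizer_singleton_iff.2 hg
    obtain ⟨v, hv, y, hy, rfl⟩ := mem_sup_of_normal_right.1 hgm
    refine ⟨v, hv, ?_⟩
    rw [map_mul, show π y = 1 from (QuotientGroup.eq_one_iff y).2 hy, mul_one]
  have H : Hyp (U.map π) := by
    refine ⟨?_, ?_, ?_⟩
    · rw [← h4]
      refine Nat.card_congr (Equiv.ofBijective (fun u : U => (⟨π u, ⟨u, u.2, rfl⟩⟩ : U.map π)) ⟨?_, ?_⟩).symm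
      · intro u v h
        exact hinj (congrArg Subtype.val h)
      · rintro ⟨_, u, hu, rfl⟩
        exact ⟨⟨u, hu⟩, rfl⟩
    · rintro _ ⟨u, hu, rfl⟩
      rw [← map_mul, hsq u hu, map_one]
    · rintro _ ⟨u, hu, rfl⟩ hu1 y hy
      obtain ⟨g, rfl⟩ := QuotientGroup.mk'_surjective (zpowers x) y
      have hu1' : u ≠ 1 := by
        rintro rfl
        exact hu1 (map_one _)
      refine hC u hu hu1' g ?_
      -- `g u g⁻¹ = u y` with `y ∈ ⟨x⟩`
      have h1 : π (g * u) = π (u * g) := by
        rw [map_mul, map_mul]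
        exact hy
      have h2 : (u * g)⁻¹ * (g * u) ∈ zpowers x := by
        rw [← QuotientGroup.eq]
        exact h1.symm
      obtain ⟨k, hk⟩ := mem_zpowers_iff.1 h2
      have h3 : g * u = u * g * x ^ k := by rw [hk]; group
      have hcx : ∀ w : C, w * x ^ k = x ^ k * w := fun w => ((show Commute w x from hc w).zpow_right k).eq
      have h4' : x ^ k * x ^ k = 1 := by
        have h5 : g * u * g⁻¹ = u * x ^ k := by
          rw [h3, mul_assoc, ← hcx g⁻¹]
          group
        have h6 : (g * u * g⁻¹) * (g * u * g⁻¹) = 1 := by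
          calc (g * u * g⁻¹) * (g * u * g⁻¹) = g * (u * u) * g⁻¹ := by group
            _ = 1 := by rw [hsq u hu]; group
        rw [h5] at h6
        calc x ^ k * x ^ k = u * u * (x ^ k * x ^ k) := by rw [hsq u hu, one_mul]
          _ = u * (u * x ^ k) * x ^ k := by group
          _ = u * (x ^ k * u) * x ^ k := by rw [hcx u]
          _ = u * x ^ k * (u * x ^ k) := by group
          _ = 1 := h6
      have h5 := hsqx _ (zpow_mem (mem_zpowers x) k) h4'
      rw [h3, h5, mul_one]
  exact H.card_cases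

end Cfsg.Agent.H845.HNSevenAbs
end

-- part: H845/HNSeven
section
/-!
# The centralizer of an element of order 7 in the Harada–Norton group (helper845)

`hn_seven` : `C(x) = ⟨x⟩ × A5`, of order 420.
-/

set_option autoImplicit false

namespace Cfsg.Agent.H845.HNSeven

open Cfsg Subgroup
open Cfsg.Agent.CpAutHN.Alt (Φ Φ_inj A12 cy)
open Cfsg.Agent.Lib.AltCarmichael (Rel exists_hom cyc cyc_mem gen gen_cyc gen_def)
open Equiv.Perm (mem_alternatingGroup)

/-- `A5` -/
abbrev A5 : Type := alternatingGroup (Fin 5)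

/-- the 3-cycles `(7+i 10 11)` in `Fin 12` -/
def qp (i : ℕ) : Equiv.Perm (Fin 12) :=
  if i < 3 then Equiv.swap (Fin.ofNat 12 (7 + i)) 10 * Equiv.swap 10 11 else 1

theorem qp_mem (i : ℕ) : qp i ∈ alternatingGroup (Fin 12) := by
  by_cases h : i < 3
  · have h' : ∀ i < 3, Equiv.Perm.sign (qp i) = 1 := by decide +kernel
    exact mem_alternatingGroup.2 (h' i h)
  · unfold qp
    rw [if_neg h]
    exact one_mem _

/-- the 3-cycles -/
def q (i : ℕ) : A12 := ⟨qp i, qp_mem i⟩

theorem rel_q : Rel 3 q where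
  cube := by
    have h : ∀ i < 3, qp i ^ 3 = 1 := by decide +kernel
    exact fun i hi => Subtype.ext (h i hi)
  sq := by
    have h : ∀ i < 3, ∀ j < 3, i ≠ j → (qp i * qp j) ^ 2 = 1 := by decide +kernel
    exact fun i hi j hj hij => Subtype.ext (h i hi j hj hij)

/-- the embedding of `A5` in `A12` -/
noncomputable def ι : A5 →* A12 := (exists_hom (m := 3) (by norm_num) rel_q).choose

theorem ι_cyc {i : ℕ} (hi : i < 3) : ι ⟨cyc 3 i, cyc_mem 3 i hi⟩ = q i :=
  (exists_hom (m := 3) (by norm_num) rel_q).choose_spec i hi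

theorem simple_A5 : IsSimpleGroup A5 := alternatingGroup.isSimpleGroup (by
  rw [Nat.card_eq_fintype_card, Fintype.card_fin])

theorem ι_inj : Function.Injective ι := by
  have := simple_A5
  rw [← MonoidHom.ker_eq_bot_iff]
  rcases (inferInstance : (ι).ker.Normal).eq_bot_or_eq_top with h | h
  · exact h
  · exfalso
    have h1 : (⟨cyc 3 0, cyc_mem 3 0 (by norm_num)⟩ : A5) ∈ ι.ker := by rw [h]; exact Subgroup.mem_top _
    rw [MonoidHom.mem_ker, ι_cyc (by norm_num)] at h1
    have h2 : qp 0 = 1 := congrArg Subtype.val h1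
    exact absurd h2 (by decide +kernel)

theorem top_of_gens {T : Subgroup A5} (h : ∀ (i : ℕ) (hi : i < 3), (⟨cyc 3 i, cyc_mem 3 i hi⟩ : A5) ∈ T) :
    T = ⊤ := by
  rw [eq_top_iff]
  intro s _
  have h1 : (s : Equiv.Perm (Fin 5)) ∈ T.map (alternatingGroup (Fin 5)).subtype := by
    have h2 : (s : Equiv.Perm (Fin 5)) ∈ gen 3 (cyc 3) := by
      rw [gen_cyc 3 (by norm_num)]
      exact s.2
    have h3 : gen 3 (cyc 3) ≤ T.map (alternatingGroup (Fin 5)).subtype := by
      rw [gen_def, Subgroup.closure_le]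
      rintro _ ⟨i, hi, rfl⟩
      exact ⟨_, h i hi, rfl⟩
    exact h3 h2
  obtain ⟨t, ht, e⟩ := h1
  have : t = s := Subtype.ext e
  rwa [← this]

/-- the 7-cycle -/
def c7 : Equiv.Perm (Fin 12) := cy [0, 1, 2, 3, 4, 5, 6]

theorem c7_mem : c7 ∈ alternatingGroup (Fin 12) := by rw [mem_alternatingGroup]; decide +kernel

theorem ι_comm (a : A5) : ι a * ⟨c7, c7_mem⟩ = ⟨c7, c7_mem⟩ * ι a := by
  have h : (centralizer ({(⟨c7, c7_mem⟩ : A12)} : Set A12)).comap ι = ⊤ := by
    apply top_of_gens
    intro i hi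
    rw [mem_comap, ι_cyc hi, mem_centralizer_singleton_iff]
    apply Subtype.ext
    change qp i * c7 = c7 * qp i
    have h1 : ∀ i < 3, qp i * c7 = c7 * qp i := by decide +kernel
    exact h1 i hi
  have h1 : a ∈ (centralizer ({(⟨c7, c7_mem⟩ : A12)} : Set A12)).comap ι := by rw [h]; exact mem_top a
  rw [mem_comap, mem_centralizer_singleton_iff] at h1
  exact h1

/-- the element of order 7 -/
noncomputable def X7 : Spor.HN := Φ ⟨c7, c7_mem⟩

theorem order_X7 : orderOf X7 = 7 := by
  have : Fact (Nat.Prime 7) := ⟨by norm_num⟩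
  unfold X7
  rw [orderOf_injective Φ Φ_inj]
  refine orderOf_eq_prime (Subtype.ext ?_) (fun h => ?_)
  · change c7 ^ 7 = 1
    (set_option synthInstance.maxSize 9000 in open scoped Cfsg.Agent.Lib.FastPerm in decide +kernel)
  · have h2 : c7 = 1 := congrArg Subtype.val h
    exact absurd h2 (by decide +kernel)

/-- `A5 → C(X7)` -/
noncomputable def Ψ : A5 →* ↥(centralizer ({X7} : Set Spor.HN)) :=
  (Φ.comp ι).codRestrict _ (fun a => by
    rw [mem_centralizer_singleton_iff]
    change Φ (ι a) * Φ ⟨c7, c7_mem⟩ = Φ ⟨c7, c7_mem⟩ * Φ (ι a)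
    rw [← map_mul, ι_comm, map_mul])

theorem Ψ_coe (a : A5) : ((Ψ a : ↥(centralizer ({X7} : Set Spor.HN))) : Spor.HN) = Φ (ι a) := rfl

theorem Ψ_inj : Function.Injective Ψ := by
  intro a b h
  apply ι_inj
  apply Φ_inj
  rw [← Ψ_coe, ← Ψ_coe, h]

/-- the four-group of `A5` -/
theorem exists_four : ∃ V : Subgroup A5, Nat.card V = 4 ∧ ∀ v ∈ V, v * v = 1 := by
  have : Fact (Nat.Prime 2) := ⟨Nat.prime_two⟩
  have h60 : Nat.card A5 = 60 := by
    rw [nat_card_alternatingGroup, Nat.card_fin]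
    rfl
  obtain ⟨V, hV⟩ := Sylow.exists_subgroup_card_pow_prime 2 (G := A5) (n := 2) (by rw [h60]; norm_num)
  refine ⟨V, by rw [hV]; norm_num, ?_⟩
  intro v hv
  have h1 : v ^ 4 = 1 := by
    have h2 := pow_card_eq_one' (x := (⟨v, hv⟩ : V))
    rw [hV] at h2
    exact congrArg Subtype.val h2
  have h3 : ∀ a : Equiv.Perm (Fin 5), Equiv.Perm.sign a = 1 → a ^ 4 = 1 → a * a = 1 := by (set_option synthInstance.maxSize 9000 in open scoped Cfsg.Agent.Lib.FastPerm in decide +kernel)
  exact Subtype.ext (h3 v v.2 (congrArg Subtype.val h1))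

theorem card_cent : Nat.card (centralizer ({X7} : Set Spor.HN)) = 420 := by
  have hfin := Cfsg.Agent.H463.Sp.HN.finite_HN
  obtain ⟨V, hV4, hV2⟩ := exists_four
  set C := centralizer ({X7} : Set Spor.HN) with hC
  let x : C := ⟨X7, mem_centralizer_singleton_iff.2 rfl⟩
  have hx : orderOf x = 7 := by rw [Subgroup.orderOf_mk, order_X7]
  have hc : ∀ g : C, g * x = x * g := fun g => Subtype.ext (mem_centralizer_singleton_iff.1 g.2)
  have h := HNSevenAbs.card_cases (r := 7) (by decide) hx hc (V.map Ψ) (by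
    rw [← hV4]
    exact (Nat.card_congr (V.equivMapOfInjective Ψ Ψ_inj).toEquiv).symm) (by
    rintro _ ⟨v, hv, rfl⟩
    rw [← map_mul, hV2 v hv, map_one]) (by
    rintro _ ⟨v, hv, rfl⟩ hv1
    have hu : orderOf ((Ψ v : C) : Spor.HN) = 2 := by
      rw [Subgroup.orderOf_coe]
      exact orderOf_eq_prime (by rw [pow_two, ← map_mul, hV2 v hv, map_one]) hv1
    have h1 := HNSevenA.card_inf order_X7 hu (mem_centralizer_singleton_iff.1 (Ψ v).2)
    have h2 : Nat.card ↥(centralizer ({Ψ v} : Set C)) =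
        Nat.card ↥(centralizer ({X7} : Set Spor.HN) ⊓ centralizer ({((Ψ v : C) : Spor.HN)} : Set Spor.HN)) := by
      refine Nat.card_congr
        { toFun := fun v => ⟨((v : C) : Spor.HN), (v : C).2,
            mem_centralizer_singleton_iff.2 (congrArg Subtype.val (mem_centralizer_singleton_iff.1 v.2))⟩
          invFun := fun v => ⟨⟨(v : Spor.HN), v.2.1⟩,
            mem_centralizer_singleton_iff.2 (Subtype.ext (mem_centralizer_singleton_iff.1 v.2.2))⟩
          left_inv := fun _ => rfl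
          right_inv := fun _ => rfl }
    rw [h2]
    exact h1)
  obtain ⟨hn, h⟩ := h
  have h60 : Nat.card A5 = 60 := by
    rw [nat_card_alternatingGroup, Nat.card_fin]
    rfl
  -- `A5` embeds in the quotient
  have hinj : Function.Injective ((QuotientGroup.mk' (zpowers x)).comp Ψ) := by
    have := simple_A5
    rw [← MonoidHom.ker_eq_bot_iff]
    rcases (inferInstance : ((QuotientGroup.mk' (zpowers x)).comp Ψ).ker.Normal).eq_bot_or_eq_top with h | h
    · exact h
    · exfalso
      have h1 : Ψ.range ≤ zpowers x := by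
        rintro _ ⟨a, rfl⟩
        have h2 : a ∈ ((QuotientGroup.mk' (zpowers x)).comp Ψ).ker := by rw [h]; exact mem_top a
        exact (QuotientGroup.eq_one_iff _).1 h2
      have h2 := card_dvd_of_le h1
      rw [Nat.card_zpowers, hx, ← Nat.card_congr (MonoidHom.ofInjective Ψ_inj).toEquiv, h60] at h2
      norm_num at h2
  have hle := Nat.card_le_card_of_injective _ hinj
  rw [h60] at hle
  have h3 : Nat.card (C ⧸ zpowers x) = 60 := by omega
  rw [Subgroup.card_eq_card_quotient_mul_card_subgroup (zpowers x), h3, Nat.card_zpowers, hx]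

/-- **The centralizer of an element of order 7 of `HN`** -/
theorem hn_seven : ∃ (x : Spor.HN) (K : Subgroup Spor.HN), orderOf x = 7 ∧
    Nonempty (K ≃* alternatingGroup (Fin 5)) ∧ (∀ k ∈ K, k * x = x * k) ∧
    Nat.card (Subgroup.centralizer ({x} : Set Spor.HN)) = 420 := by
  have hinj : Function.Injective (Φ.comp ι) := Φ_inj.comp ι_inj
  refine ⟨X7, (Φ.comp ι).range, order_X7, ⟨(MonoidHom.ofInjective hinj).symm⟩, ?_, card_cent⟩
  rintro _ ⟨a, rfl⟩
  exact mem_centralizer_singleton_iff.1 (Ψ a).2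

end Cfsg.Agent.H845.HNSeven
end
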