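import Cfsg.Agent.CpAutHN.Second
import Cfsg.Agent.HN.TraceFast
import Cfsg.Agent.HN.Order19Z_mg
import Cfsg.Agent.HN.A12Group
import Cfsg.Agent.H845.HNMult
import Cfsg.Agent.H845.HNSeven
import Cfsg.Agent.H729.PairTool_m3
import Cfsg.Agent.SigZeroHN.Main
import Cfsg.Agent.Lib.Refl
import Cfsg.Agent.Lib.DivFast
import Cfsg.Agent.Lib.PackCol
import Cfsg.Agent.FastGrp
import Cfsg.Agent.Prune
set_option linter.all false

-- part: H845/HNTr
section
set_option linter.all false
open scoped Cfsg.Agent.FastGrp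

/-!
# Traces of the elements of order 3 and 11 of `A12 ≤ HN` (helper845)

`tr_order_three` : `tr (Φ a)` is 7 or 29 for `a` of order 3;
`tr_eleven` : `tr (X11 ^ k) = 1` for `1 ≤ k ≤ 10`, `X11` of order 11.
-/

set_option autoImplicit false

namespace Cfsg.Agent.H845.HNTr

open Cfsg.Agent.Lib.PackMat Cfsg.Agent.Lib.PackMatGroup Cfsg.Agent.Lib.PackMatMul Cfsg.Agent.HN.RepData
open Cfsg.Agent.HN.Rep (L LG gens rho)
open Cfsg.Agent.HN.A12 (ws results)
open Cfsg.Agent.HN.A12Step (L20)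
open Cfsg.Agent.HN.A12Group (a e rho_e)
open Cfsg.Agent.HN.Trace
open Cfsg.Agent.CpAutHN.Tr Cfsg.Agent.CpAutHN.Alt
open Equiv.Perm (mem_alternatingGroup)

theorem ca : checkTr C (cw L20 [9, 8, 7, 6]) 0 133 1960 = true :=
  Cfsg.Agent.HN.TraceFast.of_chk (L := [(0, 133, 1960)]) (by decide +kernel) (.head _)
theorem cb : checkTr C (cw L20 [0, 8, 6, 2, 1, 5, 7, 8, 3, 4, 1, 9]) 0 133 2084 = true :=
  Cfsg.Agent.HN.TraceFast.of_chk (L := [(0, 133, 2084)]) (by decide +kernel) (.head _)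
theorem cc : checkTr C (cw L20 [6, 5, 0, 3, 9, 7, 1, 8, 4, 8, 2]) 0 133 2078 = true :=
  Cfsg.Agent.HN.TraceFast.of_chk (L := [(0, 133, 2078)]) (by decide +kernel) (.head _)
theorem cd : checkTr C (cw L20 [0, 7, 0, 2, 8, 6, 3, 9, 1, 4, 5]) 0 133 2047 = true :=
  Cfsg.Agent.HN.TraceFast.of_chk (L := [(0, 133, 2047)]) (by decide +kernel) (.head _)

/-- the words -/
def l2 : List ℕ := [0, 1, 2, 3]
/-- the words -/
def l3 : List ℕ := [0, 1, 2, 0, 1, 3, 4, 5, 6]
/-- the words -/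
def l4 : List ℕ := [9, 1, 3, 7, 8, 4, 2, 1, 6, 5, 8, 0]
/-- the words -/
def l11 : List ℕ := [3, 4, 9, 6, 0, 2, 8, 1, 5, 1, 7]
/-- the words -/
def l11' : List ℕ := [9, 2, 9, 7, 1, 3, 6, 0, 8, 5, 4]

theorem tr_l2 : tr (ew l2) = 7 := by
  unfold tr
  rw [rho_ew, show (l2.map fun i => 9 - i) = [9, 8, 7, 6] from rfl,
    trace_of_chunks Cfsg.Agent.HN.Rep.good Cfsg.Agent.HN.Rep.one_lt codes (by decide) [(133, 1960)] (by decide)
      ⟨ca, trivial⟩]
  decide

theorem tr_l4 : tr (ew l4) = 7 := by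
  unfold tr
  rw [rho_ew, show (l4.map fun i => 9 - i) = [0, 8, 6, 2, 1, 5, 7, 8, 3, 4, 1, 9] from rfl,
    trace_of_chunks Cfsg.Agent.HN.Rep.good Cfsg.Agent.HN.Rep.one_lt codes (by decide) [(133, 2084)] (by decide)
      ⟨cb, trivial⟩]
  decide

theorem tr_l11 : tr (ew l11) = 1 := by
  unfold tr
  rw [rho_ew, show (l11.map fun i => 9 - i) = [6, 5, 0, 3, 9, 7, 1, 8, 4, 8, 2] from rfl,
    trace_of_chunks Cfsg.Agent.HN.Rep.good Cfsg.Agent.HN.Rep.one_lt codes (by decide) [(133, 2078)] (by decide)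
      ⟨cc, trivial⟩]
  decide

theorem tr_l11' : tr (ew l11') = 1 := by
  unfold tr
  rw [rho_ew, show (l11'.map fun i => 9 - i) = [0, 7, 0, 2, 8, 6, 3, 9, 1, 4, 5] from rfl,
    trace_of_chunks Cfsg.Agent.HN.Rep.good Cfsg.Agent.HN.Rep.one_lt codes (by decide) [(133, 2047)] (by decide)
      ⟨cd, trivial⟩]
  decide

/-! ### Elements of order 3 -/

/-- conjugacy in the alternating group when an odd permutation commutes with the representative -/
theorem exists_even {σ τ s : Equiv.Perm (Fin 12)} (h : IsConj σ τ) (hs : Equiv.Perm.sign s = -1) (hc : s * τ = τ * s) :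
    ∃ g : Equiv.Perm (Fin 12), Equiv.Perm.sign g = 1 ∧ g * σ = τ * g := by
  obtain ⟨g, hg⟩ := isConj_iff.1 h
  have hg' : g * σ = τ * g := by rw [← hg]; group
  rcases Int.units_eq_one_or (Equiv.Perm.sign g) with h1 | h1
  · exact ⟨g, h1, hg'⟩
  · refine ⟨s * g, ?_, ?_⟩
    · rw [map_mul, hs, h1]; rfl
    · rw [mul_assoc, hg', ← mul_assoc, hc, mul_assoc]

/-- permutations of order 3 -/
theorem cycleType_of_cube {σ : Equiv.Perm (Fin 12)} (h : σ ^ 3 = 1) :
    σ.cycleType = Multiset.replicate (σ.cycleType.card) 3 ∧ 3 * σ.cycleType.card = σ.support.card := by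
  have h1 : ∀ b ∈ σ.cycleType, b = 3 := by
    intro b hb
    have h2 := (Equiv.Perm.dvd_of_mem_cycleType hb).trans (orderOf_dvd_of_pow_eq_one h)
    have h3 := Equiv.Perm.two_le_of_mem_cycleType hb
    rcases (Nat.dvd_prime Nat.prime_three).1 h2 with h4 | h4 <;> omega
  have h2 := Multiset.eq_replicate_card.2 h1
  refine ⟨h2, ?_⟩
  have h3 := σ.sum_cycleType
  rw [h2, Multiset.sum_replicate, smul_eq_mul] at h3
  omega

theorem isConj_of_cube {σ τ : Equiv.Perm (Fin 12)} (h : σ ^ 3 = 1) (h' : τ ^ 3 = 1)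
    (hc : σ.support.card = τ.support.card) : IsConj σ τ := by
  rw [Equiv.Perm.isConj_iff_cycleType_eq]
  obtain ⟨h1, h2⟩ := cycleType_of_cube h
  obtain ⟨h3, h4⟩ := cycleType_of_cube h'
  rw [h1, h3]
  congr 1
  omega

theorem c1_3 : wp [0] ^ 3 = 1 := by decide +kernel
theorem c2_3 : wp l2 ^ 3 = 1 := by decide +kernel
theorem c3_3 : wp l3 ^ 3 = 1 := by decide +kernel
theorem c4_3 : wp l4 ^ 3 = 1 := by decide +kernel
theorem s1 : (wp [0]).support.card = 3 := by decide +kernel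
theorem s2 : (wp l2).support.card = 6 := by decide +kernel
theorem s3 : (wp l3).support.card = 9 := by decide +kernel
theorem s4 : (wp l4).support.card = 12 := by decide +kernel

section Simple

variable [IsSimpleGroup Cfsg.Spor.HN]

theorem tr_of_even {l : List ℕ} (hl : ∀ i ∈ l, i < 10) {f s : Equiv.Perm (Fin 12)} (hf : f ∈ alternatingGroup (Fin 12))
    (h : IsConj (wp l) f) (h' : IsConj f (wp l)) (hs : Equiv.Perm.sign s = -1) (hc : s * wp l = wp l * s) :
    tr (Φ ⟨f, hf⟩) = tr (ew l) := by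
  obtain ⟨g, hg, hg'⟩ := exists_even h' hs hc
  refine tr_of hl (g := g⁻¹) hf ?_ ?_
  · rw [mem_alternatingGroup, map_inv, hg]; rfl
  · have h1 : f = g⁻¹ * wp l * g := by rw [mul_assoc, ← hg']; group
    rw [h1]; group

/-- **Elements of order 3** -/
theorem tr_order_three {b : A12} (hb : orderOf b = 3) : tr (Φ b) = 7 ∨ tr (Φ b) = 29 := by
  obtain ⟨f, hf⟩ := b
  have h3 : f ^ 3 = 1 := by
    have h1 := pow_orderOf_eq_one (⟨f, hf⟩ : A12)
    rw [hb] at h1
    exact congrArg Subtype.val h1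
  have h1 : f ≠ 1 := by
    rintro rfl
    have : (⟨1, hf⟩ : A12) = 1 := rfl
    rw [this, orderOf_one] at hb
    omega
  obtain ⟨k1, k2⟩ := cycleType_of_cube h3
  have h4 : f.support.card ≤ 12 := by
    have := f.support.card_le_univ
    rwa [Fintype.card_fin] at this
  have h5 : 0 < f.cycleType.card := by
    rw [Nat.pos_iff_ne_zero, Ne, Equiv.Perm.card_cycleType_eq_zero]
    exact h1
  have h6 : f.cycleType.card = 1 ∨ f.cycleType.card = 2 ∨ f.cycleType.card = 3 ∨ f.cycleType.card = 4 := by omega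
  rcases h6 with h6 | h6 | h6 | h6
  · left
    have h7 : IsConj f (wp [0]) := isConj_of_cube h3 c1_3 (by rw [s1]; omega)
    rw [tr_of_even (l := [0]) (by decide) hf h7.symm h7 (s := cy [1, 2]) (by decide +kernel) (by decide +kernel)]
    exact tr_one
  · left
    have h7 : IsConj f (wp l2) := isConj_of_cube h3 c2_3 (by rw [s2]; omega)
    rw [tr_of_even (l := l2) (by decide) hf h7.symm h7 (s := cy [4, 5]) (by decide +kernel) (by decide +kernel)]
    exact tr_l2
  · right
    have h7 : IsConj f (wp l3) := isConj_of_cube h3 c3_3 (by rw [s3]; omega)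
    rw [tr_of_even (l := l3) (by decide) hf h7.symm h7 (s := cy [7, 8]) (by decide +kernel) (by decide +kernel)]
    exact tr_three
  · left
    have h7 : IsConj f (wp l4) := isConj_of_cube h3 c4_3 (by rw [s4]; omega)
    rw [tr_of_even (l := l4) (by decide) hf h7.symm h7 (s := cy [0, 1] * cy [4, 5] * cy [7, 11]) (by decide +kernel)
      (by decide +kernel)]
    exact tr_l4

/-! ### Elements of order 11 -/

theorem l11_lt : ∀ i ∈ l11, i < 10 := by decide

theorem l11'_lt : ∀ i ∈ l11', i < 10 := by decide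

/-- the element of order 11 -/
noncomputable def X11 : Cfsg.Spor.HN := Φ ⟨wp l11, wp_mem l11_lt⟩

omit [IsSimpleGroup Cfsg.Spor.HN] in
theorem wp_l11_pow : wp l11 ^ 11 = 1 := by decide +kernel

omit [IsSimpleGroup Cfsg.Spor.HN] in
theorem wp_l11_ne : wp l11 ≠ 1 := by decide +kernel

omit [IsSimpleGroup Cfsg.Spor.HN] in
theorem order_wp (h : wp l11 ∈ alternatingGroup (Fin 12)) : orderOf (⟨wp l11, h⟩ : A12) = 11 := by
  have : Fact (Nat.Prime 11) := ⟨by norm_num⟩
  rw [Subgroup.orderOf_mk]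
  exact orderOf_eq_prime wp_l11_pow wp_l11_ne

theorem order_X11 : orderOf X11 = 11 := by
  unfold X11
  rw [orderOf_injective Φ Φ_inj]
  exact order_wp _

theorem X11_pow (k : ℕ) : X11 ^ k = Φ ⟨wp l11 ^ k, pow_mem (wp_mem l11_lt) k⟩ := by
  unfold X11
  rw [← map_pow]
  rfl

/-- conjugators -/
def gt (k : ℕ) : Equiv.Perm (Fin 12) :=
  match k with
  | 1 => 1
  | 2 => cy [1, 6, 10, 11, 7, 2, 4, 8, 9]
  | 3 => cy [2, 9, 10, 5, 6] * cy [3, 4, 11, 8, 7]
  | 4 => cy [2, 6, 5, 10, 9] * cy [3, 7, 8, 11, 4]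
  | 5 => cy [2, 5, 9, 6, 10] * cy [3, 8, 4, 7, 11]
  | 6 => cy [1, 2, 11, 3, 4, 7, 9] * cy [5, 6] * cy [8, 10]
  | 7 => cy [1, 9] * cy [2, 8, 5] * cy [3, 11, 4] * cy [7, 10]
  | 8 => cy [1, 5, 10, 4, 11, 8, 2, 3, 7, 6, 9]
  | 9 => cy [2, 10, 6, 9, 5] * cy [3, 11, 7, 4, 8]
  | _ => cy [1, 10, 3, 8, 6, 2, 7, 5, 9]

theorem gt_ok : ∀ k ∈ List.range 11, k = 0 ∨ (Equiv.Perm.sign (gt k) = 1 ∧
    (gt k * wp l11 = wp l11 ^ k * gt k ∨ gt k * wp l11' = wp l11 ^ k * gt k)) := by decide +kernel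

theorem tr_eleven {k : ℕ} (h0 : k ≠ 0) (hk : k < 11) : tr (X11 ^ k) = 1 := by
  rw [X11_pow]
  rcases gt_ok k (List.mem_range.2 hk) with h | ⟨h1, h | h⟩
  · exact absurd h h0
  · rw [tr_of l11_lt _ (mem_alternatingGroup.2 h1) h, tr_l11]
  · rw [tr_of l11'_lt _ (mem_alternatingGroup.2 h1) h, tr_l11']

end Simple

end Cfsg.Agent.H845.HNTr
end

-- part: H845/HNNineteen
section
set_option linter.all false
open scoped Cfsg.Agent.FastGrp

-- part: H845/HNNine
section
/-!
# An element of order 19 of HN conjugate to its fourth power (helper845)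
-/

set_option autoImplicit false

namespace Cfsg.Agent.H845.HNNine

open Cfsg.Agent.Lib.PackMat Cfsg.Agent.Lib.PackMatGroup Cfsg.Agent.Lib.PackMatMul
open Cfsg.Agent.HN.RepData Cfsg.Agent.HN.Rep

/-- the word of the element of order 19 -/
def wx : List ℕ := [1, 2, 2, 7, 4, 3]

/-- the word of the normalizing element -/
def wn : List ℕ := [6, 0, 3, 4, 2, 2, 4, 6, 0, 4, 3, 5, 3, 3, 3, 1, 7, 5, 6, 3, 1, 3]

/-- left side -/
def wl : List ℕ := wn ++ wx

/-- right side -/
def wr : List ℕ := wx ++ (wx ++ (wx ++ (wx ++ wn)))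

private theorem sub_eq28 {C : Cfsg.Agent.Lib.PackMat.Cfg} {w₁ w₂ : List ℕ} {n lo cnt : ℕ} (h : Cfsg.Agent.Lib.PackMat.checkEq C w₁ w₂ 0 n = true)
    (hn : Nat.beq n C.n = true) (hle : Nat.ble (lo + cnt) n = true) : Cfsg.Agent.Lib.PackMat.checkEq C w₁ w₂ lo cnt = true := by
  obtain rfl := Nat.eq_of_beq_eq_true hn
  unfold Cfsg.Agent.Lib.PackMat.checkEq
  rw [hle, cond_true]
  exact Cfsg.Agent.Lib.PackCol.checkEqK_of cnt lo (Nat.le_of_ble_eq_true hle) fun i hi =>
    Cfsg.Agent.Lib.PackMat.checkEq_spec h i (Nat.zero_le _) (by omega)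

private theorem all28_1 : checkEq C (cw L wl) (cw L wr) 0 133 = true := by (rewrite [Cfsg.Agent.Lib.PackCol.checkEq_col]; decide +kernel)
theorem c0 : checkEq C (cw L wl) (cw L wr) 0 14 = true := sub_eq28 all28_1 (by decide +kernel) (by decide)
theorem c1 : checkEq C (cw L wl) (cw L wr) 14 14 = true := sub_eq28 all28_1 (by decide +kernel) (by decide)
theorem c2 : checkEq C (cw L wl) (cw L wr) 28 14 = true := sub_eq28 all28_1 (by decide +kernel) (by decide)
theorem c3 : checkEq C (cw L wl) (cw L wr) 42 14 = true := sub_eq28 all28_1 (by decide +kernel) (by decide)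
theorem c4 : checkEq C (cw L wl) (cw L wr) 56 14 = true := sub_eq28 all28_1 (by decide +kernel) (by decide)
theorem c5 : checkEq C (cw L wl) (cw L wr) 70 14 = true := sub_eq28 all28_1 (by decide +kernel) (by decide)
theorem c6 : checkEq C (cw L wl) (cw L wr) 84 14 = true := sub_eq28 all28_1 (by decide +kernel) (by decide)
theorem c7 : checkEq C (cw L wl) (cw L wr) 98 14 = true := sub_eq28 all28_1 (by decide +kernel) (by decide)
theorem c8 : checkEq C (cw L wl) (cw L wr) 112 21 = true := sub_eq28 all28_1 (by decide +kernel) (by decide)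

theorem rel : evG LG wl = evG LG wr := by
  refine eq_of_rows good one_lt codes (by decide) (by decide) fun i hi => ?_
  have hi' : i < 133 := hi
  rcases lt_or_ge i 14 with h0 | h0
  · exact checkEq_spec c0 i (Nat.zero_le _) h0
  rcases lt_or_ge i 28 with h1 | h1
  · exact checkEq_spec c1 i h0 h1
  rcases lt_or_ge i 42 with h2 | h2
  · exact checkEq_spec c2 i h1 h2
  rcases lt_or_ge i 56 with h3 | h3
  · exact checkEq_spec c3 i h2 h3
  rcases lt_or_ge i 70 with h4 | h4
  · exact checkEq_spec c4 i h3 h4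
  rcases lt_or_ge i 84 with h5 | h5
  · exact checkEq_spec c5 i h4 h5
  rcases lt_or_ge i 98 with h6 | h6
  · exact checkEq_spec c6 i h5 h6
  rcases lt_or_ge i 112 with h7 | h7
  · exact checkEq_spec c7 i h6 h7
  exact checkEq_spec c8 i h7 (by omega)

/-- the element of order 19 -/
noncomputable def X19 : Cfsg.Spor.HN := evG gens wx

/-- the normalizing element -/
noncomputable def N9 : Cfsg.Spor.HN := evG gens wn

variable [IsSimpleGroup Cfsg.Spor.HN]

theorem order_X19 : orderOf X19 = 19 := by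
  have : Fact (Nat.Prime 19) := ⟨by norm_num⟩
  obtain ⟨h1, h2⟩ := Cfsg.Agent.HN.Order19T.ord
  have h3 : rho X19 = evG LG wx := rho_word wx
  refine orderOf_eq_prime ?_ ?_
  · apply Cfsg.Agent.HN.A12Group.rho_injective
    rw [map_pow, map_one, h3]
    exact h1
  · intro h
    apply h2
    rw [h, map_one] at h3
    exact h3.symm

theorem conj_X19 : N9 * X19 * N9⁻¹ = X19 ^ 4 := by
  apply Cfsg.Agent.HN.A12Group.rho_injective
  rw [map_mul, map_mul, map_inv, map_pow, show rho N9 = evG LG wn from rho_word wn,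
    show rho X19 = evG LG wx from rho_word wx, mul_inv_eq_iff_eq_mul]
  have h := rel
  unfold wl wr at h
  rw [evG_append, evG_append, evG_append, evG_append, evG_append] at h
  rw [h]
  simp only [pow_succ, pow_zero, one_mul, mul_assoc]

end Cfsg.Agent.H845.HNNine
end

-- part: H845/HNNineteen
section
/-!
# The elements of order 19 of HN are self-centralizing (helper845)

`x` of order 19, `k = |C(x)| / 19`, `e = |N(⟨x⟩) : C(x)|`: `k` is prime to 2 (orders of the centralizers of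
involutions), to 7 (`|C(y)| = 420` for `y` of order 7), to 11 and to 9 (trace in the 133-dimensional representation:
the multiplicities of the eigenvalues of `w` in `C(x)` are divisible by 19); 9 divides `e` (explicit element);
Sylow's theorem gives `k = 1`.
-/

set_option autoImplicit false

namespace Cfsg.Agent.H845.HNNineteen

open Cfsg Subgroup Cfsg.Agent.H729.PairBase
open Cfsg.Agent.CpAutHN.Tr (tr tr_conj)
open Cfsg.Agent.CpAutHN.Alt (Φ Φ_inj A12)
open Cfsg.Agent.KFacts.HN.Classes (card_HN)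
open scoped Pointwise

/-! ### Generalities -/

theorem exists_conj_mem {S : Type*} [Group S] [Finite S] {r : ℕ} (hr : r.Prime) (h2 : ¬ r ^ 2 ∣ Nat.card S) {x z : S}
    (hx : orderOf x = r) (hz : orderOf z = r) : ∃ g : S, g * z * g⁻¹ ∈ zpowers x := by
  have : Fact r.Prime := ⟨hr⟩
  have h1 : r ∣ Nat.card S := hx ▸ orderOf_dvd_natCard x
  have hfac : (Nat.card S).factorization r = 1 := by
    have h0 : Nat.card S ≠ 0 := Nat.card_pos.ne'
    have ha : 1 ≤ (Nat.card S).factorization r := (hr.dvd_iff_one_le_factorization h0).1 h1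
    have hb : ¬ 2 ≤ (Nat.card S).factorization r := fun h => h2 ((hr.pow_dvd_iff_le_factorization h0).2 h)
    omega
  have hP : ∀ z : S, orderOf z = r → Nat.card (zpowers z) = r ^ (Nat.card S).factorization r := fun z hz => by
    rw [hfac, pow_one, Nat.card_zpowers, hz]
  obtain ⟨g, hg⟩ := MulAction.exists_smul_eq S (Sylow.ofCard (zpowers z) (hP z hz)) (Sylow.ofCard (zpowers x) (hP x hx))
  refine ⟨g, ?_⟩
  have h3 : g * z * g⁻¹ ∈ (g • (Sylow.ofCard (zpowers z) (hP z hz)) : Sylow r S) := by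
    rw [← SetLike.mem_coe, Sylow.coe_smul, Set.mem_smul_set]
    exact ⟨z, mem_zpowers z, rfl⟩
  rw [hg] at h3
  exact h3

/-- two subgroups of a finite group with large orders meet -/
theorem inf_ne_bot {S : Type*} [Group S] {P T R : Subgroup S} [Finite R] (hP : P ≤ R) (hT : T ≤ R)
    (h : Nat.card R < Nat.card P * Nat.card T) : P ⊓ T ≠ ⊥ := by
  intro hb
  have hinj := Subgroup.mul_injective_of_disjoint (disjoint_iff.2 hb)
  have h1 : Nat.card (P × T) ≤ Nat.card R := by
    refine Nat.card_le_card_of_injective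
      (fun g : P × T => (⟨g.1 * g.2, R.mul_mem (hP g.1.2) (hT g.2.2)⟩ : R)) ?_
    intro a b hab
    exact hinj (congrArg Subtype.val hab)
  rw [Nat.card_prod] at h1
  omega

theorem inst : IsSimpleGroup Spor.HN := Cfsg.Agent.S1701.result.1

theorem finite_HN : Finite Spor.HN := Cfsg.Agent.H463.Sp.HN.finite_HN

theorem tr_one : tr (1 : Spor.HN) = 9 := by
  unfold tr
  rw [map_one, Units.val_one, Matrix.trace_one, Fintype.card_fin]
  decide

/-! ### The primes dividing the order of the centralizer -/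

theorem three {x w : Spor.HN} (hx : orderOf x = 19) (hw : orderOf w = 3) (hxw : x * w = w * x) {g : Spor.HN}
    (h : ∃ b : A12, g * w * g⁻¹ = @Φ inst b) : False := by
  have hS := inst
  obtain ⟨b, hb⟩ := h
  have hob : orderOf b = 3 := by
    rw [← orderOf_injective Φ Φ_inj, ← hb, ← hw]
    exact orderOf_injective (MulAut.conj g).toMonoidHom (MulAut.conj g).injective w
  have h1 : tr w = 7 ∨ tr w = 29 := by
    rw [tr_conj (isConj_iff.2 ⟨g, hb⟩)]
    exact HNTr.tr_order_three hob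
  have hob2 : orderOf (b ^ 2) = 3 := by
    rw [Nat.Coprime.orderOf_pow (by rw [hob]; norm_num), hob]
  have h2 : tr (w ^ 2) = 7 ∨ tr (w ^ 2) = 29 := by
    have hb2 : g * w ^ 2 * g⁻¹ = Φ (b ^ 2) := by
      rw [map_pow, ← hb, conj_pow]
    rw [tr_conj (isConj_iff.2 ⟨g, hb2⟩)]
    exact HNTr.tr_order_three hob2
  obtain ⟨m, hm, h3⟩ := HNMult.exists_mult hx (q := 3) (by norm_num) hw hxw
  rw [Finset.sum_range_succ, Finset.sum_range_succ, Finset.sum_range_succ, Finset.sum_range_zero, pow_zero, pow_one,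
    tr_one, zero_add] at h3
  have h4 : ∀ m ≤ 7, ∀ a b : ZMod 31, (a = 7 ∨ a = 29) → (b = 7 ∨ b = 29) →
      9 + a + b ≠ ((3 * (19 * m) : ℕ) : ZMod 31) := by (set_option synthInstance.maxSize 100000 in exact Cfsg.Agent.Lib.Refl.of (by decide +kernel))
  exact h4 m hm _ _ h1 h2 h3

theorem eleven {x w : Spor.HN} (hx : orderOf x = 19) (hw : orderOf w = 11) (hxw : x * w = w * x) : False := by
  classical
  have hS := inst
  have hfin := finite_HN
  obtain ⟨g, hg⟩ := exists_conj_mem (by norm_num : Nat.Prime 11) (by rw [card_HN]; norm_num)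
    (@HNTr.order_X11 inst) hw
  obtain ⟨m, hm, h3⟩ := HNMult.exists_mult hx (q := 11) (by norm_num) hw hxw
  have key : ∀ k, k ≠ 0 → k < 11 → tr (w ^ k) = 1 := by
    intro k h0 hk
    have h1 : g * w ^ k * g⁻¹ ∈ zpowers (@HNTr.X11 inst) := by
      rw [← conj_pow]
      exact pow_mem hg k
    obtain ⟨i, hi, hi2⟩ : ∃ i, i < 11 ∧ (@HNTr.X11 inst) ^ i = g * w ^ k * g⁻¹ := by
      have h2 := (isOfFinOrder_of_finite (@HNTr.X11 inst)).mem_zpowers_iff_mem_range_orderOf.1 h1
      rw [@HNTr.order_X11 inst] at h2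
      simpa using h2
    have hi0 : i ≠ 0 := by
      rintro rfl
      rw [pow_zero] at hi2
      have h4 : w ^ k = 1 := by
        have h5 : w ^ k = g⁻¹ * (g * w ^ k * g⁻¹) * g := by group
        rw [h5, ← hi2]
        group
      have h5 := orderOf_dvd_of_pow_eq_one h4
      rw [hw] at h5
      have := Nat.le_of_dvd (by omega) h5
      omega
    rw [tr_conj (isConj_iff.2 ⟨g, hi2.symm⟩)]
    exact HNTr.tr_eleven hi0 hi
  rw [Finset.sum_range_succ'] at h3
  rw [pow_zero, tr_one] at h3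
  have h4 : ∑ k ∈ Finset.range 10, tr (w ^ (k + 1)) = ∑ k ∈ Finset.range 10, (1 : ZMod 31) :=
    Finset.sum_congr rfl fun k hk => key (k + 1) (by omega) (by have := Finset.mem_range.1 hk; omega)
  rw [h4, Finset.sum_const, Finset.card_range] at h3
  have h5 : ∀ m ≤ 7, (10 • (1 : ZMod 31) + 9) ≠ ((11 * (19 * m) : ℕ) : ZMod 31) := by decide +kernel
  exact h5 m hm h3

theorem seven {x w : Spor.HN} (hx : orderOf x = 19) (hw : orderOf w = 7) (hxw : x * w = w * x) : False := by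
  have hS := inst
  have hfin := finite_HN
  have h1 := card_cent_of_one (by norm_num : Nat.Prime 7) (by rw [card_HN]; norm_num) HNSeven.order_X7 hw
  rw [HNSeven.card_cent] at h1
  have h2 := Cfsg.Agent.H463.Pair.dvd_card_centralizer (x := x) (y := w) (r := 19) (by rw [hx]) hxw
  rw [h1] at h2
  norm_num at h2

theorem two {x w : Spor.HN} (hx : orderOf x = 19) (hw : orderOf w = 2) (hxw : x * w = w * x) : False := by
  have h2 := Cfsg.Agent.H463.Pair.dvd_card_centralizer (x := x) (y := w) (r := 19) (by rw [hx]) hxw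
  rcases Cfsg.Agent.SigZeroHN.card_centralizer_cases hw with ⟨-, h⟩ | ⟨-, h⟩ <;> rw [h] at h2 <;> norm_num at h2

/-! ### The part at 3 -/

theorem card_A12 : Nat.card A12 = 239500800 := by
  rw [nat_card_alternatingGroup, Nat.card_fin]
  rfl

/-- 9 does not divide the order of the centralizer -/
theorem nine {x : Spor.HN} (hx : orderOf x = 19) : ¬ 9 ∣ Nat.card (centralizer ({x} : Set Spor.HN)) := by
  classical
  intro h9
  have hS := inst
  have hfin := finite_HN
  have : Fact (Nat.Prime 3) := ⟨Nat.prime_three⟩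
  obtain ⟨P0, hP0⟩ := Sylow.exists_subgroup_card_pow_prime 3 (G := centralizer ({x} : Set Spor.HN)) (n := 2)
    (by rw [show (3 : ℕ) ^ 2 = 9 by norm_num]; exact h9)
  obtain ⟨T0, hT0⟩ := Sylow.exists_subgroup_card_pow_prime 3 (G := A12) (n := 5)
    (by rw [card_A12]; norm_num)
  obtain ⟨P, hP⟩ : ∃ P, P = P0.map (centralizer ({x} : Set Spor.HN)).subtype := ⟨_, rfl⟩
  obtain ⟨T, hT⟩ : ∃ T, T = T0.map (@Φ inst) := ⟨_, rfl⟩
  have cP : Nat.card P = 3 ^ 2 := by
    rw [hP, ← hP0]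
    exact (Nat.card_congr (P0.equivMapOfInjective _ (subtype_injective _)).toEquiv).symm
  have cT : Nat.card T = 3 ^ 5 := by
    rw [hT, ← hT0]
    exact (Nat.card_congr (T0.equivMapOfInjective _ Φ_inj).toEquiv).symm
  obtain ⟨S, hPS⟩ := (IsPGroup.of_card cP).exists_le_sylow
  obtain ⟨S', hTS'⟩ := (IsPGroup.of_card cT).exists_le_sylow
  obtain ⟨g, hg⟩ := MulAction.exists_smul_eq Spor.HN S' S
  have hTS : MulAut.conj g • T ≤ (S : Subgroup Spor.HN) := by
    have h1 : MulAut.conj g • T ≤ MulAut.conj g • (S' : Subgroup Spor.HN) := by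
      rw [Subgroup.pointwise_smul_le_pointwise_smul_iff]
      exact hTS'
    have h2 : MulAut.conj g • (S' : Subgroup Spor.HN) = S := by
      rw [← hg]
      rfl
    rwa [h2] at h1
  have cS : Nat.card S = 3 ^ 6 := by
    have h1 := S.card_eq_multiplicity
    rw [h1, card_HN]
    congr 1
    rw [show 273030912000000 = 3 ^ 6 * 374528000000 by norm_num, Nat.factorization_mul (by norm_num) (by norm_num),
      Finsupp.add_apply, Nat.Prime.factorization_pow Nat.prime_three, Finsupp.single_eq_same,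
      Nat.factorization_eq_zero_of_not_dvd (by norm_num)]
  have cT' : Nat.card ↥(MulAut.conj g • T) = 3 ^ 5 := by
    rw [← cT]
    exact (Nat.card_congr (T.equivSMul (MulAut.conj g)).toEquiv).symm
  have hne := inf_ne_bot hPS hTS (by
    have e1 : Nat.card ↥(S : Subgroup Spor.HN) = 3 ^ 6 := cS
    rw [e1, cP, cT']
    norm_num)
  obtain ⟨u, hu, hu1⟩ : ∃ u ∈ P ⊓ MulAut.conj g • T, u ≠ 1 := by
    by_contra hcon
    push Not at hcon
    exact hne (eq_bot_iff.2 fun u hu => mem_bot.2 (hcon u hu))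
  -- an element of order 3
  obtain ⟨w, hw, hwo⟩ : ∃ w ∈ P ⊓ MulAut.conj g • T, orderOf w = 3 := by
    have h1 : orderOf u ∣ 3 ^ 2 := by
      have h2 := orderOf_dvd_natCard (⟨u, hu.1⟩ : P)
      rwa [Subgroup.orderOf_mk, cP] at h2
    obtain ⟨i, hi, hi2⟩ := (Nat.dvd_prime_pow Nat.prime_three).1 h1
    have hi0 : i ≠ 0 := by
      rintro rfl
      rw [pow_zero, orderOf_eq_one_iff] at hi2
      exact hu1 hi2
    have hi12 : i = 1 ∨ i = 2 := by omega
    rcases hi12 with rfl | rfl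
    · exact ⟨u, hu, by rw [hi2, pow_one]⟩
    · refine ⟨u ^ 3, pow_mem hu 3, ?_⟩
      rw [orderOf_pow_of_dvd (by norm_num) (by rw [hi2]; norm_num), hi2]
      norm_num
  have hwP : w ∈ P := hw.1
  have hwT : w ∈ MulAut.conj g • T := hw.2
  rw [Subgroup.mem_smul_pointwise_iff_exists] at hwT
  rw [hP] at hwP
  obtain ⟨w', -, rfl⟩ := hwP
  obtain ⟨s, hs, hs2⟩ := hwT
  rw [hT] at hs
  obtain ⟨b, -, rfl⟩ := hs
  refine three hx hwo (mem_centralizer_singleton_iff.1 w'.2).symm (g := g⁻¹) ⟨b, ?_⟩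
  have h3 : g * Φ b * g⁻¹ = (centralizer ({x} : Set Spor.HN)).subtype w' := hs2
  rw [← h3]
  group

/-! ### The automizer -/

/-- 9 divides the order of the automizer -/
theorem nine_dvd {x : Spor.HN} (hx : orderOf x = 19) {e : ℕ}
    (he : Nat.card (normalizer ((zpowers x : Subgroup Spor.HN) : Set Spor.HN)) =
      Nat.card (centralizer ({x} : Set Spor.HN)) * e) : 9 ∣ e := by
  have hS := inst
  have hfin := finite_HN
  obtain ⟨g, hg⟩ := exists_conj_mem (by norm_num : Nat.Prime 19) (by rw [card_HN]; norm_num)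
    (@HNNine.order_X19 inst) hx
  obtain ⟨n, hn⟩ : ∃ n : Spor.HN, n * x * n⁻¹ = x ^ 4 := by
    obtain ⟨k, hk⟩ := mem_zpowers_iff.1 hg
    refine ⟨g⁻¹ * HNNine.N9 * g, ?_⟩
    have h1 : HNNine.N9 * (g * x * g⁻¹) * HNNine.N9⁻¹ = (g * x * g⁻¹) ^ 4 := by
      rw [← hk, ← conj_zpow, @HNNine.conj_X19 inst, ← zpow_natCast, ← zpow_natCast, ← zpow_mul, ← zpow_mul, mul_comm]
    rw [conj_pow] at h1
    calc g⁻¹ * HNNine.N9 * g * x * (g⁻¹ * HNNine.N9 * g)⁻¹ =
        g⁻¹ * (HNNine.N9 * (g * x * g⁻¹) * HNNine.N9⁻¹) * g := by group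
      _ = g⁻¹ * (g * x ^ 4 * g⁻¹) * g := by rw [h1]
      _ = x ^ 4 := by group
  have hnN : n ∈ normalizer ((zpowers x : Subgroup Spor.HN) : Set Spor.HN) := mem_normalizer_of_conj_pow hn
  obtain ⟨φ, hφ⟩ : ∃ φ, φ = (zpowers x : Subgroup Spor.HN).normalizerMonoidHom := ⟨_, rfl⟩
  have hker : Nat.card φ.ker = Nat.card (centralizer ({x} : Set Spor.HN)) := by
    rw [hφ, normalizerMonoidHom_ker, centralizer_zpowers_eq]
    refine Nat.card_congr (subgroupOfEquivOfLe ?_).toEquiv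
    rw [← centralizer_zpowers_eq]
    exact Subgroup.centralizer_le_normalizer _
  have hcard : Nat.card φ.ker * Nat.card φ.range =
      Nat.card (normalizer ((zpowers x : Subgroup Spor.HN) : Set Spor.HN)) := by
    rw [← Subgroup.index_ker]
    exact Subgroup.card_mul_index φ.ker
  have hrange : Nat.card φ.range = e := by
    rw [he, hker] at hcard
    exact Nat.eq_of_mul_eq_mul_left Nat.card_pos hcard
  obtain ⟨f, hf⟩ : ∃ f, f = φ ⟨n, hnN⟩ := ⟨_, rfl⟩
  have hfx : ∀ k : ℕ, (((f ^ k) ⟨x, mem_zpowers x⟩ : zpowers x) : Spor.HN) = x ^ (4 ^ k) := by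
    intro k
    induction k with
    | zero => rw [pow_zero, pow_zero, pow_one]; rfl
    | succ k ih =>
      have h1 : ∀ y : zpowers x, ((f y : zpowers x) : Spor.HN) = n * y * n⁻¹ := by
        intro y
        rw [hf, hφ]
        rfl
      rw [pow_succ', MulAut.mul_apply, h1, ih, ← conj_pow, hn, ← pow_mul, ← pow_succ']
  have hpow : ∀ k : ℕ, f ^ k = 1 ↔ 4 ^ k % 19 = 1 := by
    intro k
    have h19 : x ^ 19 = 1 := by rw [← hx, pow_orderOf_eq_one]
    constructor
    · intro h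
      have h1 := hfx k
      rw [h] at h1
      have h2 : x ^ (4 ^ k) = x ^ 1 := by rw [pow_one]; exact h1.symm
      have h3 := pow_inj_mod.1 h2
      rw [hx] at h3
      exact h3
    · intro h
      apply MulEquiv.ext
      rintro ⟨y, hy⟩
      obtain ⟨j, rfl⟩ := mem_zpowers_iff.1 hy
      have h1 : (⟨x ^ j, hy⟩ : zpowers x) = (⟨x, mem_zpowers x⟩ : zpowers x) ^ j := rfl
      rw [h1, map_zpow]
      apply Subtype.ext
      rw [Subgroup.coe_zpow, hfx k]
      have h2 : x ^ (4 ^ k) = x := by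
        rw [← Nat.div_add_mod (4 ^ k) 19, h, pow_add, pow_mul, h19, one_pow, one_mul, pow_one]
      rw [h2]
      rfl
  have hord : orderOf f = 3 ^ (1 + 1) := by
    have : Fact (Nat.Prime 3) := ⟨Nat.prime_three⟩
    refine orderOf_eq_prime_pow ?_ ?_
    · rw [hpow]; norm_num
    · rw [hpow]; norm_num
  have h1 : orderOf f ∣ Nat.card φ.range := by
    have h2 : f ∈ φ.range := ⟨_, hf.symm⟩
    have h3 := orderOf_dvd_natCard (⟨f, h2⟩ : φ.range)
    rwa [Subgroup.orderOf_mk] at h3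
  rw [hord, hrange] at h1
  exact (by norm_num : 9 ∣ 3 ^ (1 + 1)).trans h1

/-! ### The theorem -/

theorem k_eq_one : ∀ k ∈ Nat.divisors 46875, ∀ e ∈ ({9, 18} : Finset ℕ), ∀ n : ℕ, n % 19 = 1 →
    273030912000000 = n * (19 * k * e) → k = 1 := by
  intro k hk e he n hn h
  have hk' : k ∈ ({1, 3, 5, 15, 25, 75, 125, 375, 625, 1875, 3125, 9375, 15625, 46875} : Finset ℕ) := by
    have h1 : Nat.divisors 46875 = ({1, 3, 5, 15, 25, 75, 125, 375, 625, 1875, 3125, 9375, 15625, 46875} : Finset ℕ) := by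
      (rewrite [Cfsg.Agent.Lib.DivFast.divisors_eq]; decide +kernel)
    rwa [h1] at hk
  simp only [Finset.mem_insert, Finset.mem_singleton] at hk' he
  rcases he with rfl | rfl <;> rcases hk' with rfl | rfl | rfl | rfl | rfl | rfl | rfl | rfl | rfl | rfl | rfl |
    rfl | rfl | rfl <;> omega

theorem hn_nineteen : ∃ x : Cfsg.Spor.HN, orderOf x = 19 ∧
    Nat.card (Subgroup.centralizer ({x} : Set Cfsg.Spor.HN)) = 19 := by
  have hS := inst
  have hfin := finite_HN
  obtain ⟨x, e, n, hx, he18, he1, hn, hN, hG, h19⟩ := exists_data (S := Spor.HN) (r := 19) (by norm_num)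
    (by rw [card_HN]; norm_num) (by rw [card_HN]; norm_num) (by rw [card_HN]; norm_num)
  refine ⟨x, hx, ?_⟩
  obtain ⟨c, hc⟩ : ∃ c, c = Nat.card (centralizer ({x} : Set Spor.HN)) := ⟨_, rfl⟩
  have hp : ∀ p : ℕ, p.Prime → p ∣ c → ∃ w : Spor.HN, orderOf w = p ∧ x * w = w * x := by
    intro p hp h
    have : Fact p.Prime := ⟨hp⟩
    rw [hc] at h
    obtain ⟨w, hw⟩ := exists_prime_orderOf_dvd_card' p h
    exact ⟨w, by rw [Subgroup.orderOf_coe, hw], (mem_centralizer_singleton_iff.1 w.2).symm⟩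
  have h2 : ¬ 2 ∣ c := fun h => by
    obtain ⟨w, hw, hxw⟩ := hp 2 Nat.prime_two h
    exact two hx hw hxw
  have h7 : ¬ 7 ∣ c := fun h => by
    obtain ⟨w, hw, hxw⟩ := hp 7 (by norm_num) h
    exact seven hx hw hxw
  have h11 : ¬ 11 ∣ c := fun h => by
    obtain ⟨w, hw, hxw⟩ := hp 11 (by norm_num) h
    exact eleven hx hw hxw
  have h9 : ¬ 9 ∣ c := by rw [hc]; exact nine hx
  have he9 : 9 ∣ e := nine_dvd hx hN
  rw [← hc] at hG h19 ⊢
  rw [card_HN] at hG
  have hdvd : c ∣ 273030912000000 := ⟨n * e, by rw [hG]; ring⟩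
  -- remove the primes
  obtain ⟨k, rfl⟩ := h19
  have hk1 : k ∣ 14370048000000 := by
    refine Nat.dvd_of_mul_dvd_mul_left (by norm_num : 0 < 19) (hdvd.trans ?_)
    norm_num
  have hk2 : k ∣ 2 ^ 14 * (7 * (11 * (3 ^ 6 * 5 ^ 6))) := hk1.trans (by norm_num)
  have c2 : Nat.Coprime k (2 ^ 14) := Nat.Coprime.pow_right _ ((Nat.Prime.coprime_iff_not_dvd Nat.prime_two).2
    fun h => h2 (h.mul_left _)).symm
  have c7 : Nat.Coprime k 7 := ((Nat.Prime.coprime_iff_not_dvd (by norm_num)).2 fun h => h7 (h.mul_left _)).symm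
  have c11 : Nat.Coprime k 11 := ((Nat.Prime.coprime_iff_not_dvd (by norm_num)).2 fun h => h11 (h.mul_left _)).symm
  have hk3 : k ∣ 3 ^ 6 * 5 ^ 6 := c11.dvd_of_dvd_mul_left (c7.dvd_of_dvd_mul_left (c2.dvd_of_dvd_mul_left hk2))
  have hk4 : k ∣ 46875 := by
    by_cases h3 : 3 ∣ k
    · obtain ⟨l, rfl⟩ := h3
      have hl3 : ¬ 3 ∣ l := fun h => h9 ((mul_dvd_mul_left 3 h).mul_left 19)
      have cl : Nat.Coprime l (3 ^ 5) := Nat.Coprime.pow_right _
        ((Nat.Prime.coprime_iff_not_dvd Nat.prime_three).2 hl3).symm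
      have hl : l ∣ 3 ^ 5 * 5 ^ 6 := Nat.dvd_of_mul_dvd_mul_left (by norm_num : 0 < 3) (hk3.trans (by norm_num))
      exact (mul_dvd_mul_left 3 (cl.dvd_of_dvd_mul_left hl)).trans (by norm_num)
    · have ck : Nat.Coprime k (3 ^ 6) := Nat.Coprime.pow_right _
        ((Nat.Prime.coprime_iff_not_dvd Nat.prime_three).2 h3).symm
      exact (ck.dvd_of_dvd_mul_left hk3).trans (by norm_num)
  have he : e ∈ ({9, 18} : Finset ℕ) := by
    have h1 : e ≤ 18 := Nat.le_of_dvd (by norm_num) he18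
    have h2 : 0 < e := Nat.pos_of_dvd_of_pos he18 (by norm_num)
    simp only [Finset.mem_insert, Finset.mem_singleton]
    omega
  rw [k_eq_one k (Nat.mem_divisors.2 ⟨hk4, by norm_num⟩) e he n hn hG]

end Cfsg.Agent.H845.HNNineteen
end

private theorem dce_13d6792b6e5e : _root_.True := by
  try have : _root_.True := by simp only [_root_.Cfsg.Agent.H845.HNTr.X11.congr_simp]
  exact _root_.True.intro
end
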