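import Mathlib
import Cfsg.Agent.S0480U.UModel
import Cfsg.Agent.TSp.OrdersT
import Cfsg.Agent.S0436
import Cfsg.Agent.S0437
import Cfsg.Agent.R01.Assembly2
import Cfsg.Agent.R01.IdentMain
import Cfsg.Agent.R01.Fi22Facts
import Cfsg.Agent.S0283
set_option linter.all false

-- part: H845/UList
section
set_option autoImplicit false

/-!
# Products of commuting members of a set of type `U(n)`

The product of a list of commuting members of `E` acts on `E` by adding the sum of the corresponding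
rank-one maps; lines and hyperovals of a totally isotropic plane act trivially.
-/

namespace Cfsg.Agent.H845.UList

open Cfsg Cfsg.Agent.SporadicStructure.FischerSpace Cfsg.Agent.ThreeTransPolar.Basic
open Cfsg.Agent.ThreeTransPolar.Lines Cfsg.Agent.Fischer920.PsuEnd Cfsg.Agent.S0480U.Herm
open Cfsg.Agent.Fischer480.Defs Cfsg.Agent.S0480U.UModel

variable {G : Type*} [Group G]
variable {F V : Type*} [Field F] [Fintype F] [AddCommGroup V] [Module F V] {h : V → V → F}
variable {n : ℕ} {E : Set G} {f : G → V} (U : UM h n E f)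
include U

/-- The product of a list of commuting members of `E` acts by adding the sum of the rank-one maps. -/
theorem f_cj_prod {D : Set G} (FD : FData D) (hED : E ⊆ D) (hcl : ∀ a ∈ E, ∀ b ∈ E, cj a b ∈ E)
    (hn : 4 ≤ n) (l : List G) (hl : ∀ b ∈ l, b ∈ E) (hc : l.Pairwise Commute) {t : G}
    (ht : t ∈ E) : cj l.prod t ∈ E ∧ ∃ k : F, k ≠ 0 ∧
      f (cj l.prod t) = k • (f t + (l.map fun b => h (f t) (f b) • f b).sum) := by
  induction l with
  | nil =>
    refine ⟨by rw [List.prod_nil, cj_one]; exact ht, 1, one_ne_zero, ?_⟩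
    rw [List.prod_nil, cj_one, List.map_nil, List.sum_nil, add_zero, one_smul]
  | cons b l ih =>
    rw [List.pairwise_cons] at hc
    obtain ⟨h1, k, hk, h2⟩ := ih (fun c hc' => hl c (List.mem_cons_of_mem _ hc')) hc.2
    have hb := hl b List.mem_cons_self
    refine ⟨by rw [List.prod_cons, cj_mul]; exact hcl _ hb _ h1, ?_⟩
    have H := U.herm
    have hs : ∀ m : List G, (∀ c ∈ m, c ∈ E) → (∀ c ∈ m, Commute b c) →
        h (m.map fun b => h (f t) (f b) • f b).sum (f b) = 0 := by
      intro m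
      induction m with
      | nil => intro _ _; rw [List.map_nil, List.sum_nil]; exact zero_left H _
      | cons c m ihm =>
        intro h3 h4
        rw [List.map_cons, List.sum_cons, H.add_left, H.smul_left,
          ihm (fun c hc' => h3 c (List.mem_cons_of_mem _ hc'))
            (fun c hc' => h4 c (List.mem_cons_of_mem _ hc')),
          (U.comm c (h3 c List.mem_cons_self) b hb).1 (h4 c List.mem_cons_self).symm, mul_zero,
          add_zero]
    obtain ⟨k', hk', h3⟩ := f_cj_list U FD hED hcl hn (y := t) h1 hk h2 hb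
      (hs l (fun c hc' => hl c (List.mem_cons_of_mem _ hc')) hc.1)
    refine ⟨k', hk', ?_⟩
    rw [List.prod_cons, cj_mul, h3, List.map_cons, List.sum_cons]
    congr 2
    rw [add_comm]

/-- If the sum of the rank-one maps vanishes then the product acts trivially. -/
theorem commute_prod {D : Set G} (FD : FData D) (hED : E ⊆ D) (hcl : ∀ a ∈ E, ∀ b ∈ E, cj a b ∈ E)
    (hn : 4 ≤ n) (l : List G) (hl : ∀ b ∈ l, b ∈ E) (hc : l.Pairwise Commute) {t : G}
    (ht : t ∈ E) (h0 : (l.map fun b => h (f t) (f b) • f b).sum = 0) : Commute l.prod t := by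
  obtain ⟨h1, k, -, h2⟩ := f_cj_prod U FD hED hcl hn l hl hc ht
  rw [h0, add_zero] at h2
  rw [← cj_eq_self_iff]
  exact U.inj _ h1 t ht k h2

theorem two_self (c : F) : c + c = 0 := add_self U.card c

/-- the rank-one term of a point given by coordinates -/
theorem term_eq {t p e1 e2 e3 : G} {k a b : F} (hk : k ≠ 0)
    (hp : f p = k • (f e1 + a • f e2 + b • f e3)) :
    h (f t) (f p) • f p = (h (f t) (f e1) + a ^ 2 * h (f t) (f e2) + b ^ 2 * h (f t) (f e3)) •
      (f e1 + a • f e2 + b • f e3) := by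
  have H := U.herm
  rw [hp, H.smul_right, add_right U.card H, add_right U.card H, H.smul_right, H.smul_right,
    smul_smul]
  congr 1
  have h3 := pow_three U.card hk
  linear_combination (h (f t) (f e1) + a ^ 2 * h (f t) (f e2) + b ^ 2 * h (f t) (f e3)) * h3

/-- existence of the points with given coordinates -/
theorem exists_coord {e1 e2 e3 : G} (h1 : e1 ∈ E) (h2 : e2 ∈ E) (h3 : e3 ∈ E)
    (c12 : Commute e1 e2) (c13 : Commute e1 e3) (c23 : Commute e2 e3)
    (hne : ∀ a b : F, f e1 + a • f e2 + b • f e3 ≠ 0) (a b : F) :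
    ∃ p ∈ E, ∃ k : F, k ≠ 0 ∧ f p = k • (f e1 + a • f e2 + b • f e3) := by
  have H := U.herm
  refine exists_pt U (hne a b) ?_
  have k12 := (U.comm e1 h1 e2 h2).1 c12
  have k21 := (U.comm e2 h2 e1 h1).1 c12.symm
  have k13 := (U.comm e1 h1 e3 h3).1 c13
  have k31 := (U.comm e3 h3 e1 h1).1 c13.symm
  have k23 := (U.comm e2 h2 e3 h3).1 c23
  have k32 := (U.comm e3 h3 e2 h2).1 c23.symm
  simp only [H.add_left, H.smul_left, add_right U.card H, H.smul_right, k12, k21, k13, k31, k23,
    k32, U.iso e1 h1, U.iso e2 h2, U.iso e3 h3, mul_zero, add_zero]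

/-- The coordinates `(1, a, b)` are all isotropic and pairwise orthogonal. -/
theorem commute_coord {e1 e2 e3 p q : G} (h1 : e1 ∈ E) (h2 : e2 ∈ E) (h3 : e3 ∈ E)
    (c12 : Commute e1 e2) (c13 : Commute e1 e3) (c23 : Commute e2 e3) (hp : p ∈ E) (hq : q ∈ E)
    {a b c a' b' c' : F} (ep : f p = c • f e1 + a • f e2 + b • f e3)
    (eq : f q = c' • f e1 + a' • f e2 + b' • f e3) : Commute p q := by
  have H := U.herm
  have k12 := (U.comm e1 h1 e2 h2).1 c12
  have k21 := (U.comm e2 h2 e1 h1).1 c12.symm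
  have k13 := (U.comm e1 h1 e3 h3).1 c13
  have k31 := (U.comm e3 h3 e1 h1).1 c13.symm
  have k23 := (U.comm e2 h2 e3 h3).1 c23
  have k32 := (U.comm e3 h3 e2 h2).1 c23.symm
  rw [U.comm p hp q hq, ep, eq]
  simp only [H.add_left, H.smul_left, add_right U.card H, H.smul_right, k12, k21, k13, k31, k23,
    k32, U.iso e1 h1, U.iso e2 h2, U.iso e3 h3, mul_zero, add_zero]

/-- **Hyperovals act trivially.** -/
theorem hyperoval_sum {t e1 e2 e3 p q r : G} {w : F} (hw : w ^ 2 + w = 1) {c k l m : F}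
    (hc : c ^ 3 = 1) (hk : k ≠ 0) (hl : l ≠ 0) (hm : m ≠ 0)
    (hp : f p = k • (f e1 + (1 : F) • f e2 + c • f e3))
    (hq : f q = l • (f e1 + w • f e2 + (c * w ^ 2) • f e3))
    (hr : f r = m • (f e1 + (w ^ 2) • f e2 + (c * w) • f e3)) :
    (([e1, e2, e3, p, q, r] : List G).map fun b => h (f t) (f b) • f b).sum = 0 := by
  simp only [List.map_cons, List.map_nil, List.sum_cons, List.sum_nil, add_zero]
  rw [term_eq U hk hp, term_eq U hl hq, term_eq U hm hr]
  have two : (2 : F) = 0 := two_eq U.card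
  set α := h (f t) (f e1)
  set β := h (f t) (f e2)
  set γ := h (f t) (f e3)
  have w3 : w ^ 3 = 1 := by
    linear_combination (w - 1) * hw + two * w - two
  match_scalars
  · linear_combination 2 * α * two + (β + c ^ 2 * γ) * (hw + two + w * w3)
  · linear_combination α * (hw + two) + β * (2 * two + (2 + w ^ 3) * w3) +
      c ^ 2 * γ * (hw + two + (w ^ 2 + w) * w3)
  · linear_combination c * α * (hw + two) + c * β * (hw + two + (w ^ 2 + w) * w3) +
      γ * (2 * two + (1 + w ^ 6 + w ^ 3) * hc + (2 + w ^ 3) * w3)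

end Cfsg.Agent.H845.UList
end

-- part: H845/T6Hyp
section
set_option autoImplicit false

/-!
# Type `T6`: hyperovals

In a Fischer group of type `T6`, the product of the five points of a line of `D_x` is `x`, and `x` is the
product of six pairwise commuting members of `D_x` (a hyperoval).
-/

namespace Cfsg.Agent.H845.T6Hyp

open Cfsg Cfsg.Agent.SporadicStructure.FischerSpace Cfsg.Agent.ThreeTransPolar.Basic
open Cfsg.Agent.ThreeTransPolar.Lines
open Cfsg.Agent.Fischer160.Inherit hiding Dx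
open Cfsg.Agent.Fischer480.Defs hiding FGroup
open Cfsg.Agent.TSp.Basic hiding FGroup
open Cfsg.Agent.TSp.SimpleConn Cfsg.Agent.TSp.Plane Cfsg.Agent.TSp.Count
open Cfsg.Agent.TSp.Perp Cfsg.Agent.TSp.UPlane Cfsg.Agent.TSp.LTrans Cfsg.Agent.TSp.UCount
open Cfsg.Agent.TSp.CL
open Cfsg.Agent.S0480U.UModel Cfsg.Agent.Fischer920.PsuEnd Cfsg.Agent.S0480U.Herm
open Cfsg.Agent.H845.UList

universe u

variable {G : Type u} [Group G] {D : Set G}

/-- an element commuting with `x` and `D_x` is `1` or `x` -/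
theorem eq_of_comm [Finite G] (F : FGroup D) (h : N6 D) {x c : G} (hx : x ∈ D)
    (hcx : Commute c x) (hc : ∀ y ∈ Loc D x, Commute c y) : c = 1 ∨ c = x :=
  kernel F (theta_N6 F.fd subset_rfl (tset_of_fdata F.fd) h) hx hcx hc

theorem three (F : FGroup D) : Cfsg.IsThreeTranspositionSet D := (isThree_of_fdata F.fd).1

/-- the product of a line of `D_x` is `1` or `x` -/
theorem line_one_or [Finite G] (F : FGroup D) (h : N6 D) {x : G} (hx : x ∈ D) (b : Fin 5 → G)
    (hb : ∀ i, b i ∈ Loc D x) (hinj : Function.Injective b) (hcomm : ∀ i j, Commute (b i) (b j))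
    (hline : ∀ i, b i ∈ Line (Loc D x) (b 0) (b 1)) :
    b 0 * b 1 * b 2 * b 3 * b 4 = 1 ∨ b 0 * b 1 * b 2 * b 3 * b 4 = x := by
  obtain ⟨L, i1, i2, f, U⟩ := exists_um (h.loc x hx)
  have hcl := (loc_closed (tset_of_fdata F.fd) x).closed
  refine eq_of_comm F h hx ?_ ?_
  · have hc : ∀ i, Commute (b i) x := fun i => (hb i).2.2.symm
    exact ((((hc 0).mul_left (hc 1)).mul_left (hc 2)).mul_left (hc 3)).mul_left (hc 4)
  · intro y hy
    exact prod_line U F.fd (fun z hz => hz.1) hcl (by norm_num) b hb hinj hcomm hline hy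

/-- the product of a line of `D_x` is `x` -/
theorem line_prod [Finite G] (F : FGroup D) (h : N6 D) {x : G} (hx : x ∈ D) (b : Fin 5 → G)
    (hb : ∀ i, b i ∈ Loc D x) (hinj : Function.Injective b) (hcomm : ∀ i j, Commute (b i) (b j))
    (hline : ∀ i, b i ∈ Line (Loc D x) (b 0) (b 1)) :
    b 0 * b 1 * b 2 * b 3 * b 4 = x := by
  rcases line_one_or F h hx b hb hinj hcomm hline with h1 | h1
  swap
  · exact h1
  exfalso
  have T := three F
  have hbD : ∀ i, b i ∈ D := fun i => (hb i).1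
  have hsq : ∀ i, b i * b i = 1 := fun i => F.fd.sq _ (hbD i)
  have hinv : ∀ i, (b i)⁻¹ = b i := fun i => F.fd.inv_eq (hbD i)
  have hne : ∀ i j, i ≠ j → b i ≠ b j := fun i j hij hh => hij (hinj hh)
  -- the line of `D_{b 0}`
  have hE : ∀ i, i ≠ 0 → b i ∈ Loc D (b 0) := fun i hi => ⟨hbD i, hne i 0 hi, hcomm 0 i⟩
  have h34 : ∀ i, (i = 3 ∨ i = 4) → b i ∈ Line (Loc D (b 0)) (b 1) (b 2) := by
    intro i hi
    refine ⟨hE i (by rcases hi with rfl | rfl <;> decide), ?_⟩
    intro d hd h2 h3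
    have h4 : Commute d (b 0 * b 1 * b 2) := (hd.2.2.symm.mul_right h2).mul_right h3
    have h5 : b 0 * b 1 * b 2 = (b 3 * b 4)⁻¹ := by
      rw [eq_inv_iff_mul_eq_one]; rw [← h1]; group
    rw [h5] at h4
    have h6 : Commute d (b 3 * b 4) := by simpa using h4.inv_right
    have h7 := (Cfsg.Agent.S0436.result T (hbD 3) (hbD 4) hd.1 (hne 3 4 (by decide))
      (hcomm 3 4)).1 h6
    rcases hi with rfl | rfl
    · exact h7.1
    · exact h7.2
  obtain ⟨L, i1, i2, f, U⟩ := exists_um (h.loc (b 0) (hbD 0))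
  have hcard := card_line U (hE 1 (by decide)) (hE 2 (by decide)) (hne 1 2 (by decide)) (hcomm 1 2)
  -- a fifth point
  obtain ⟨s, hs, hs'⟩ : ∃ s ∈ Line (Loc D (b 0)) (b 1) (b 2), s ∉ ({b 1, b 2, b 3, b 4} : Set G) := by
    by_contra hcon
    push Not at hcon
    have h2 : (Line (Loc D (b 0)) (b 1) (b 2)).ncard ≤ ({b 1, b 2, b 3, b 4} : Set G).ncard :=
      Set.ncard_le_ncard hcon (Set.toFinite _)
    have h3 : ({b 1, b 2, b 3, b 4} : Set G).ncard ≤ 4 := by
      refine (Set.ncard_insert_le _ _).trans ?_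
      refine Nat.succ_le_succ ((Set.ncard_insert_le _ _).trans ?_)
      refine Nat.succ_le_succ ((Set.ncard_insert_le _ _).trans ?_)
      rw [Set.ncard_singleton]
    omega
  simp only [Set.mem_insert_iff, Set.mem_singleton_iff, not_or] at hs'
  obtain ⟨s1, s2, s3, s4⟩ := hs'
  have hm1 : b 1 ∈ Line (Loc D (b 0)) (b 1) (b 2) := mem_Line_left (hE 1 (by decide))
  have hm2 : b 2 ∈ Line (Loc D (b 0)) (b 1) (b 2) := mem_Line_right (hE 2 (by decide))
  have hcs : ∀ u ∈ Line (Loc D (b 0)) (b 1) (b 2), ∀ v ∈ Line (Loc D (b 0)) (b 1) (b 2),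
      Commute u v := fun u hu v hv =>
    Line_commute (hE 1 (by decide)) (hE 2 (by decide)) (hcomm 1 2) hu hv
  have hall : ∀ i : Fin 5, (![b 1, b 2, b 3, b 4, s] : Fin 5 → G) i ∈
      Line (Loc D (b 0)) (b 1) (b 2) := by
    intro i
    fin_cases i
    · exact hm1
    · exact hm2
    · exact h34 3 (Or.inl rfl)
    · exact h34 4 (Or.inr rfl)
    · exact hs
  have h2 := line_one_or F h (hbD 0) ![b 1, b 2, b 3, b 4, s] (fun i => Line_mem (hall i)) (by
      intro i j hij
      fin_cases i <;> fin_cases j <;> first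
        | rfl
        | (exact absurd hij (hne _ _ (by decide)))
        | (exact absurd hij (Ne.symm s1)) | (exact absurd hij (Ne.symm s2))
        | (exact absurd hij (Ne.symm s3)) | (exact absurd hij (Ne.symm s4))
        | (exact absurd hij s1) | (exact absurd hij s2)
        | (exact absurd hij s3) | (exact absurd hij s4)) (fun i j => hcs _ (hall i) _ (hall j))
    hall
  have h3 : b 1 * b 2 * b 3 * b 4 = b 0 := by
    have : b 0 * (b 1 * b 2 * b 3 * b 4) = 1 := by rw [← h1]; group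
    rw [← hinv 0]
    exact (inv_eq_of_mul_eq_one_right this).symm
  have h4 : b 0 * s = 1 ∨ b 0 * s = b 0 := by
    have h5 : (![b 1, b 2, b 3, b 4, s] : Fin 5 → G) 0 * ![b 1, b 2, b 3, b 4, s] 1 *
        ![b 1, b 2, b 3, b 4, s] 2 * ![b 1, b 2, b 3, b 4, s] 3 * ![b 1, b 2, b 3, b 4, s] 4 =
        b 0 * s := by
      rw [← h3]; rfl
    rw [h5] at h2
    exact h2
  have hsL := Line_mem hs
  rcases h4 with h4 | h4
  · apply hsL.2.1
    rw [← inv_eq_of_mul_eq_one_right h4, hinv]
  · exact F.fd.ne_one s hsL.1 (by simpa using h4)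

/-- No three points of a line of `D_x` commute with a member of `D` not commuting with `x`. -/
theorem no_three [Finite G] (F : FGroup D) (h : N6 D) {x a : G} (hx : x ∈ D) (ha : a ∈ D)
    (hxa : ¬ Commute x a) {u v w : G} (hu : u ∈ Loc D x) (hv : v ∈ Loc D x) (huv : u ≠ v)
    (hc : Commute u v) (hw : w ∈ Line (Loc D x) u v) (hwu : w ≠ u) (hwv : w ≠ v)
    (au : Commute a u) (av : Commute a v) (aw : Commute a w) : False := by
  obtain ⟨L, i1, i2, f, U⟩ := exists_um (h.loc x hx)
  have hcard := card_line U hu hv huv hc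
  have hfin : (Line (Loc D x) u v).Finite := Set.toFinite _
  have hmu : u ∈ Line (Loc D x) u v := mem_Line_left hu
  have hmv : v ∈ Line (Loc D x) u v := mem_Line_right hv
  have hsub : ({u, v, w} : Set G) ⊆ Line (Loc D x) u v := by
    rintro t (rfl | rfl | rfl)
    · exact hmu
    · exact hmv
    · exact hw
  have h3 : ({u, v, w} : Set G).ncard = 3 := by
    rw [Set.ncard_insert_of_notMem (by simp [huv, Ne.symm hwu]) (Set.toFinite _),
      Set.ncard_pair (Ne.symm hwv)]
  have h2 : (Line (Loc D x) u v \ {u, v, w}).ncard = 2 := by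
    rw [Set.ncard_sdiff hsub (Set.toFinite _), hcard, h3]
  obtain ⟨p, q, hpq, hpq'⟩ := Set.ncard_eq_two.1 h2
  have hp : p ∈ Line (Loc D x) u v \ {u, v, w} := by rw [hpq']; simp
  have hq : q ∈ Line (Loc D x) u v \ {u, v, w} := by rw [hpq']; simp
  obtain ⟨hpL, hp'⟩ := hp
  obtain ⟨hqL, hq'⟩ := hq
  simp only [Set.mem_insert_iff, Set.mem_singleton_iff, not_or] at hp' hq'
  obtain ⟨pu, pv, pw⟩ := hp'
  obtain ⟨qu, qv, qw⟩ := hq'
  have hcs : ∀ s ∈ Line (Loc D x) u v, ∀ t ∈ Line (Loc D x) u v, Commute s t :=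
    fun s hs t ht => Line_commute hu hv hc hs ht
  have hall : ∀ i : Fin 5, (![u, v, w, p, q] : Fin 5 → G) i ∈ Line (Loc D x) u v := by
    intro i
    fin_cases i
    · exact hmu
    · exact hmv
    · exact hw
    · exact hpL
    · exact hqL
  have h4 := line_prod F h hx ![u, v, w, p, q] (fun i => Line_mem (hall i)) (by
      intro i j hij
      fin_cases i <;> fin_cases j <;> first
        | rfl
        | (exact absurd hij huv) | (exact absurd hij huv.symm)
        | (exact absurd hij hwu) | (exact absurd hij hwu.symm)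
        | (exact absurd hij hwv) | (exact absurd hij hwv.symm)
        | (exact absurd hij pu) | (exact absurd hij (Ne.symm pu))
        | (exact absurd hij pv) | (exact absurd hij (Ne.symm pv))
        | (exact absurd hij pw) | (exact absurd hij (Ne.symm pw))
        | (exact absurd hij qu) | (exact absurd hij (Ne.symm qu))
        | (exact absurd hij qv) | (exact absurd hij (Ne.symm qv))
        | (exact absurd hij qw) | (exact absurd hij (Ne.symm qw))
        | (exact absurd hij hpq) | (exact absurd hij hpq.symm))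
    (fun i j => hcs _ (hall i) _ (hall j)) hall
  have h4' : u * v * w * p * q = x := h4
  have hpE := Line_mem hpL
  have hqE := Line_mem hqL
  have hsp := F.fd.sq p hpE.1
  have hsq := F.fd.sq q hqE.1
  have h5 : u * v * w = x * q * p := by
    rw [← h4']
    calc u * v * w = u * v * w * p * (q * q) * p := by
          rw [hsq, mul_one, mul_assoc (u * v * w) p p, hsp, mul_one]
      _ = u * v * w * p * q * q * p := by group
  have h6 : Commute a (x * q * p) := by
    rw [← h5]
    exact (au.mul_right av).mul_right aw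
  have h7 := (Cfsg.Agent.S0437.result (three F) hx hqE.1 hpE.1 ha hqE.2.1.symm hpE.2.1.symm
    hpq.symm hqE.2.2 hpE.2.2 (hcs _ hqL _ hpL)).1 h6
  exact hxa h7.1.symm

/-- two commuting members of a set of type `U(4)` -/
theorem exists_pair {E : Set G} (h : IsU 4 E) : ∃ u ∈ E, ∃ v ∈ E, u ≠ v ∧ Commute u v := by
  obtain ⟨L, i1, i2, f, U⟩ := exists_um h
  have hne : E.Nonempty := by
    rw [Set.nonempty_iff_ne_empty]
    rintro rfl
    have := three_mul_ncard_eq U
    rw [Set.ncard_empty] at this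
    norm_num at this
  obtain ⟨u, hu⟩ := hne
  obtain ⟨w, hw, huw⟩ := exists_not_commute U hu
  have h2 : IsU 2 (Com E u w) := isU_com (n := 2) h hu hw huw
  obtain ⟨L', j1, j2, f', U'⟩ := exists_um h2
  have hne' : (Com E u w).Nonempty := by
    rw [Set.nonempty_iff_ne_empty]
    intro h3
    have := three_mul_ncard_eq U'
    rw [h3, Set.ncard_empty] at this
    norm_num at this
  obtain ⟨v, hv⟩ := hne'
  refine ⟨u, hu, v, hv.1, ?_, hv.2.1⟩
  rintro rfl
  exact huw hv.2.2.symm

/-- a hyperoval of `D_x` whose product is `x` -/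
theorem exists_hyperoval [Finite G] (F : FGroup D) (h : N6 D) {x : G} (hx : x ∈ D) :
    ∃ l : List G, l.length = 6 ∧ (∀ b ∈ l, b ∈ Loc D x) ∧ l.Pairwise Commute ∧ l.prod = x := by
  have R := rk_of_FGroup F
  have hT := tset_of_fdata F.fd
  have T := three F
  obtain ⟨a, ha, hxa⟩ := R.exCol x hx
  obtain ⟨e1, he1⟩ := com_nonempty (by norm_num) (h.com x hx a ha hxa)
  have x1 : x ≠ e1 := by rintro rfl; exact hxa he1.2.2.symm
  have a1 : a ≠ e1 := by rintro rfl; exact hxa he1.2.1
  have hU4 : IsU 4 (Com (Loc D e1) x a) := isU_com (n := 4) (h.loc e1 he1.1)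
    ⟨hx, x1, he1.2.1.symm⟩ ⟨ha, a1, he1.2.2.symm⟩ hxa
  obtain ⟨e2, he2, e3, he3, h23, c23⟩ := exists_pair hU4
  have E1 : e1 ∈ Loc D x := ⟨he1.1, x1.symm, he1.2.1⟩
  have x2 : e2 ≠ x := by rintro rfl; exact hxa he2.2.2.symm
  have x3 : e3 ≠ x := by rintro rfl; exact hxa he3.2.2.symm
  have E2 : e2 ∈ Loc D x := ⟨he2.1.1, x2, he2.2.1⟩
  have E3 : e3 ∈ Loc D x := ⟨he3.1.1, x3, he3.2.1⟩
  have h12 : e1 ≠ e2 := he2.1.2.1.symm
  have h13 : e1 ≠ e3 := he3.1.2.1.symm
  have c12 : Commute e1 e2 := he2.1.2.2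
  have c13 : Commute e1 e3 := he3.1.2.2
  have A1 : Commute a e1 := he1.2.2
  have A2 : Commute a e2 := he2.2.2
  have A3 : Commute a e3 := he3.2.2
  obtain ⟨L, i1, i2, f, U⟩ := exists_um (h.loc x hx)
  have hcl := (loc_closed hT x).closed
  have hsub : Loc D x ⊆ D := fun z hz => hz.1
  obtain ⟨w, hw, w0, w1⟩ := exists_omega U.card
  have two : (2 : L) = 0 := two_eq U.card
  have w3 : w ^ 3 = 1 := pow_three U.card w0
  have hne : ∀ α β : L, f e1 + α • f e2 + β • f e3 ≠ 0 := by
    intro α β h0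
    refine no_three F h hx ha hxa E2 E3 h23 c23 (w := e1) ?_ h12 h13 A2 A3 A1
    rw [mem_line_iff U E2 E3 c23]
    refine ⟨E1, -α, -β, ?_⟩
    have : f e1 = -(α • f e2 + β • f e3) := by
      rw [eq_neg_iff_add_eq_zero, ← add_assoc]; exact h0
    rw [this, neg_add, neg_smul, neg_smul]
  -- the six points
  obtain ⟨p1, hp1, k1, hk1, fp1⟩ := exists_coord U E1 E2 E3 c12 c13 c23 hne 1 1
  obtain ⟨q1, hq1, l1, hl1, fq1⟩ := exists_coord U E1 E2 E3 c12 c13 c23 hne w (1 * w ^ 2)
  obtain ⟨r1, hr1, m1, hm1, fr1⟩ := exists_coord U E1 E2 E3 c12 c13 c23 hne (w ^ 2) (1 * w)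
  obtain ⟨p2, hp2, k2, hk2, fp2⟩ := exists_coord U E1 E2 E3 c12 c13 c23 hne 1 w
  obtain ⟨q2, hq2, l2, hl2, fq2⟩ := exists_coord U E1 E2 E3 c12 c13 c23 hne w (w * w ^ 2)
  obtain ⟨r2, hr2, m2, hm2, fr2⟩ := exists_coord U E1 E2 E3 c12 c13 c23 hne (w ^ 2) (w * w)
  have gen : ∀ {p : G} {k α β : L}, f p = k • (f e1 + α • f e2 + β • f e3) →
      f p = k • f e1 + (k * α) • f e2 + (k * β) • f e3 := by
    intro p k α β hp
    rw [hp]; module
  have g1 : f e1 = (1 : L) • f e1 + (0 : L) • f e2 + (0 : L) • f e3 := by module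
  have g2 : f e2 = (0 : L) • f e1 + (1 : L) • f e2 + (0 : L) • f e3 := by module
  have g3 : f e3 = (0 : L) • f e1 + (0 : L) • f e2 + (1 : L) • f e3 := by module
  have cc : ∀ {p q : G}, p ∈ Loc D x → q ∈ Loc D x → ∀ {a b c a' b' c' : L},
      f p = c • f e1 + a • f e2 + b • f e3 → f q = c' • f e1 + a' • f e2 + b' • f e3 →
      Commute p q := fun hp hq _ _ _ _ _ _ ep eq =>
    commute_coord U E1 E2 E3 c12 c13 c23 hp hq ep eq
  -- the product of a hyperoval
  have prod1 : ∀ {p q r : G} {c k l m : L}, c ^ 3 = 1 → k ≠ 0 → l ≠ 0 → m ≠ 0 →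
      p ∈ Loc D x → q ∈ Loc D x → r ∈ Loc D x →
      f p = k • (f e1 + (1 : L) • f e2 + c • f e3) →
      f q = l • (f e1 + w • f e2 + (c * w ^ 2) • f e3) →
      f r = m • (f e1 + (w ^ 2) • f e2 + (c * w) • f e3) →
      (∀ b ∈ [e1, e2, e3, p, q, r], b ∈ Loc D x) ∧ [e1, e2, e3, p, q, r].Pairwise Commute ∧
      ([e1, e2, e3, p, q, r].prod = 1 ∨ [e1, e2, e3, p, q, r].prod = x) := by
    intro p q r c k l m hc hk hl hm hp hq hr fp fq fr
    have hl' : ∀ b ∈ [e1, e2, e3, p, q, r], b ∈ Loc D x := by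
      intro b hb
      simp only [List.mem_cons, List.not_mem_nil, or_false] at hb
      rcases hb with rfl | rfl | rfl | rfl | rfl | rfl
      exacts [E1, E2, E3, hp, hq, hr]
    have hpw : [e1, e2, e3, p, q, r].Pairwise Commute := by
      simp only [List.pairwise_cons, List.mem_cons, List.not_mem_nil, or_false, forall_eq_or_imp,
        forall_eq, List.Pairwise.nil, and_true, IsEmpty.forall_iff, implies_true]
      exact ⟨⟨c12, c13, cc E1 hp g1 (gen fp), cc E1 hq g1 (gen fq), cc E1 hr g1 (gen fr)⟩,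
        ⟨c23, cc E2 hp g2 (gen fp), cc E2 hq g2 (gen fq), cc E2 hr g2 (gen fr)⟩,
        ⟨cc E3 hp g3 (gen fp), cc E3 hq g3 (gen fq), cc E3 hr g3 (gen fr)⟩,
        ⟨cc hp hq (gen fp) (gen fq), cc hp hr (gen fp) (gen fr)⟩, cc hq hr (gen fq) (gen fr)⟩
    refine ⟨hl', hpw, eq_of_comm F h hx ?_ ?_⟩
    · have h8 : ∀ m : List G, (∀ b ∈ m, b ∈ Loc D x) → Commute m.prod x := by
        intro m
        induction m with
        | nil => intro _; exact Commute.one_left x
        | cons b m ih =>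
          intro h9
          rw [List.prod_cons]
          exact ((h9 b List.mem_cons_self).2.2.symm).mul_left
            (ih fun c hc' => h9 c (List.mem_cons_of_mem _ hc'))
      exact h8 _ hl'
    · intro y hy
      exact commute_prod U F.fd hsub hcl (by norm_num) _ hl' hpw hy
        (hyperoval_sum U hw hc hk hl hm fp fq fr)
  obtain ⟨P1, P2, P3⟩ := prod1 (c := 1) (by norm_num) hk1 hl1 hm1 hp1 hq1 hr1 fp1 fq1 fr1
  rcases P3 with P3 | P3
  swap
  · exact ⟨_, rfl, P1, P2, P3⟩
  obtain ⟨Q1, Q2, Q3⟩ := prod1 (c := w) w3 hk2 hl2 hm2 hp2 hq2 hr2 fp2 fq2 fr2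
  rcases Q3 with Q3 | Q3
  swap
  · exact ⟨_, rfl, Q1, Q2, Q3⟩
  exfalso
  -- independence
  have hind : ∀ α β γ : L, α • f e1 + β • f e2 + γ • f e3 = 0 → α = 0 ∧ β = 0 ∧ γ = 0 := by
    intro α β γ h0
    by_cases hα : α = 0
    · subst hα
      rw [zero_smul, zero_add] at h0
      have h9 := fun hh => combo_ne U E2 E3 h23 (α := β) (β := γ) hh h0
      by_cases hβ : β = 0
      · by_cases hγ : γ = 0
        · exact ⟨rfl, hβ, hγ⟩
        · exact (h9 (Or.inr hγ)).elim
      · exact (h9 (Or.inl hβ)).elim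
    · exfalso
      apply hne (α⁻¹ * β) (α⁻¹ * γ)
      have : f e1 + (α⁻¹ * β) • f e2 + (α⁻¹ * γ) • f e3 =
          α⁻¹ • (α • f e1 + β • f e2 + γ • f e3) := by
        rw [smul_add, smul_add, inv_smul_smul₀ hα, smul_smul, smul_smul]
      rw [this, h0, smul_zero]
  have hneq : ∀ {p q : G} {k l α β α' β' : L}, k ≠ 0 →
      f p = k • (f e1 + α • f e2 + β • f e3) → f q = l • (f e1 + α' • f e2 + β' • f e3) →
      (α ≠ α' ∨ β ≠ β') → p ≠ q := by
    rintro p q k l α β α' β' hk hp hq hne' rfl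
    rw [hp] at hq
    have h0 : (k - l) • f e1 + (k * α - l * α') • f e2 + (k * β - l * β') • f e3 = 0 := by
      have : (k - l) • f e1 + (k * α - l * α') • f e2 + (k * β - l * β') • f e3 =
          k • (f e1 + α • f e2 + β • f e3) - l • (f e1 + α' • f e2 + β' • f e3) := by module
      rw [this, hq, sub_self]
    obtain ⟨z1, z2, z3⟩ := hind _ _ _ h0
    have z1' : k = l := sub_eq_zero.1 z1
    subst z1'
    rw [← mul_sub] at z2 z3
    have z2' := (mul_eq_zero.1 z2).resolve_left hk
    have z3' := (mul_eq_zero.1 z3).resolve_left hk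
    rcases hne' with h9 | h9
    · exact h9 (sub_eq_zero.1 z2')
    · exact h9 (sub_eq_zero.1 z3')
  have w2w : w ^ 2 ≠ w := by
    intro h9
    apply w0
    have : w * (w - 1) = 0 := by linear_combination h9
    rcases mul_eq_zero.1 this with h10 | h10
    · exact h10
    · exact absurd (sub_eq_zero.1 h10) w1
  have w21 : w ^ 2 ≠ 1 := by
    intro h9
    apply w0
    linear_combination hw - h9
  -- `a` commutes with `p`
  have comm1 : ∀ {p q r : G} {c k l m : L}, k ≠ 0 → l ≠ 0 →
      p ∈ Loc D x → q ∈ Loc D x → r ∈ Loc D x →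
      f p = k • (f e1 + (1 : L) • f e2 + c • f e3) →
      f q = l • (f e1 + w • f e2 + (c * w ^ 2) • f e3) →
      f r = m • (f e1 + (w ^ 2) • f e2 + (c * w) • f e3) →
      [e1, e2, e3, p, q, r].prod = 1 → Commute a p := by
    intro p q r c k l m hk hl hp hq hr fp fq fr hprod
    have hpq : p ≠ q := hneq hk fp fq (Or.inl w1.symm)
    have hpr : p ≠ r := hneq hk fp fr (Or.inl w21.symm)
    have hqr : q ≠ r := hneq hl fq fr (Or.inl w2w.symm)
    have h9 : p * q * r = (e1 * e2 * e3)⁻¹ := by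
      rw [eq_inv_iff_mul_eq_one]
      have h10 : e1 * e2 * e3 * (p * q * r) = 1 := by
        rw [← hprod]; simp only [List.prod_cons, List.prod_nil]; group
      calc p * q * r * (e1 * e2 * e3) =
            (e1 * e2 * e3)⁻¹ * (e1 * e2 * e3 * (p * q * r)) * (e1 * e2 * e3) := by group
        _ = 1 := by rw [h10]; group
    have h10 : Commute a (p * q * r) := by
      rw [h9]
      exact ((A1.mul_right A2).mul_right A3).inv_right
    exact ((Cfsg.Agent.S0437.result T hp.1 hq.1 hr.1 ha hpq hpr hqr (cc hp hq (gen fp) (gen fq))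
      (cc hp hr (gen fp) (gen fr)) (cc hq hr (gen fq) (gen fr))).1 h10).1
  have ap1 := comm1 hk1 hl1 hp1 hq1 hr1 fp1 fq1 fr1 P3
  have ap2 := comm1 hk2 hl2 hp2 hq2 hr2 fp2 fq2 fr2 Q3
  have h3p1 : e3 ≠ p1 := by
    rintro rfl
    have h0 : k1 • f e1 + (k1 * 1) • f e2 + (k1 * 1 - 1) • f e3 = 0 := by
      have : k1 • f e1 + (k1 * 1) • f e2 + (k1 * 1 - 1) • f e3 =
        k1 • (f e1 + (1 : L) • f e2 + (1 : L) • f e3) - f e3 := by module
      rw [this, ← fp1, sub_self]
    exact hk1 (hind _ _ _ h0).1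
  have h3p2 : p2 ≠ e3 := by
    rintro rfl
    have h0 : k2 • f e1 + (k2 * 1) • f e2 + (k2 * w - 1) • f p2 = 0 := by
      have : k2 • f e1 + (k2 * 1) • f e2 + (k2 * w - 1) • f p2 =
        k2 • (f e1 + (1 : L) • f e2 + w • f p2) - f p2 := by module
      rw [this, ← fp2, sub_self]
    exact hk2 (hind _ _ _ h0).1
  refine no_three F h hx ha hxa E3 hp1 h3p1 (cc E3 hp1 g3 (gen fp1)) (w := p2) ?_ h3p2
    (hneq hk2 fp2 fp1 (Or.inr w1)) A3 ap1 ap2
  rw [mem_line_iff U E3 hp1 (cc E3 hp1 g3 (gen fp1))]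
  refine ⟨hp2, k2 * (w - 1), k2 * k1⁻¹, ?_⟩
  rw [fp2, fp1, smul_smul, mul_assoc, inv_mul_cancel₀ hk1]
  module

end Cfsg.Agent.H845.T6Hyp
end

-- part: H845/T6Iso
section
set_option autoImplicit false
set_option linter.constructorNameAsVariable false
set_option linter.unusedSectionVars false

/-!
# A Fischer group of type `T6` is `Fi22`

For a Fischer group `(G, D)` of type `T6` (`Fischer480.Defs`) the centralizer of `x ∈ D` is perfect, has
centre `⟨x⟩` and quotient `PSU 6 F 2`; there is an isomorphism from the presented group `Fi22` onto `G`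
which maps the generators into `D` (so the class of the generators onto `D`).
-/

namespace Cfsg.Agent.H845.T6Iso

open Cfsg Cfsg.Agent.SporadicStructure.FischerSpace Cfsg.Agent.ThreeTransPolar.Basic
open Cfsg.Agent.ThreeTransPolar.Lines
open Cfsg.Agent.Fischer160.Inherit hiding Dx FGroup
open Cfsg.Agent.Fischer480.Defs hiding FGroup
open Cfsg.Agent.TSp.Perp Cfsg.Agent.TSp.LTrans
open Cfsg.Agent.TSp.CL Cfsg.Agent.TSp.Orders Cfsg.Agent.TSp.OrdersT
open Cfsg.Agent.S0480U.UModel Cfsg.Agent.Fischer920.PsuEnd Cfsg.Agent.S0480U.Herm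
open Cfsg.Agent.H845.UList Cfsg.Agent.H845.T6Hyp
open Cfsg.Agent.R01.Lifts (Ext)
open Cfsg.Agent.R01.Start (zel)

universe u

variable {G : Type u} [Group G] {D : Set G}

section Local

variable [Finite G] (F : Cfsg.Agent.Fischer160.Inherit.FGroup D) (h : N6 D) {x : G} (hx : x ∈ D)
include F h hx

theorem mem_HH_self : x ∈ HH D x := by
  obtain ⟨l, -, hl, -, hp⟩ := exists_hyperoval F h hx
  have h1 : l.prod ∈ HH D x := Subgroup.list_prod_mem _ fun b hb => mem_HH_of (hl b hb)
  rwa [hp] at h1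

theorem HH_eq : HH D x = Subgroup.centralizer ({x} : Set G) := by
  rw [← LL_eq_centralizer (cl_six F h) hx]
  refine le_antisymm (HH_le_LL x) ?_
  rw [LL, Subgroup.closure_le]
  rintro d ⟨hd, hdx⟩
  by_cases hd' : d = x
  · rw [hd']; exact mem_HH_self F h hx
  · exact mem_HH_of ⟨hd, hd', hdx.symm⟩

theorem mem_center_iff {z : HH D x} : z ∈ Subgroup.center (HH D x) ↔ (z : G) = 1 ∨ (z : G) = x :=
  mem_center_HH F (theta_N6 F.fd subset_rfl (Cfsg.Agent.TSp.Basic.tset_of_fdata F.fd) h) hx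

/-- products of an even number of members of `D_x` lie in the derived subgroup of `⟨D_x⟩` -/
theorem mem_commutator_of_list (l : List G) (hl : ∀ b ∈ l, b ∈ Loc D x) (hev : Even l.length)
    (z : HH D x) (hz : (z : G) = l.prod) : z ∈ commutator (HH D x) := by
  have key : ∀ a b : HH D x, a ∈ E D x → b ∈ E D x → Abelianization.of a = Abelianization.of b := by
    intro a b ha hb
    obtain ⟨g, hg⟩ := single_E F hx ha hb
    rw [← hg, map_mul, map_mul, map_inv, mul_comm (Abelianization.of g), mul_inv_cancel_right]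
  obtain ⟨e0, he0⟩ : (E D x).Nonempty := by
    obtain ⟨y, hy, hyx, hc⟩ := (rk_of_FGroup F).exPerp x hx
    exact ⟨⟨y, mem_HH_of ⟨hy, hyx, hc⟩⟩, ⟨hy, hyx, hc⟩⟩
  have hsq : Abelianization.of e0 * Abelianization.of e0 = 1 := by
    rw [← map_mul, sq_E F.fd he0, map_one]
  have hprod : ∀ m : List G, (∀ b ∈ m, b ∈ Loc D x) → ∀ z : HH D x, (z : G) = m.prod →
      Abelianization.of z = Abelianization.of e0 ^ m.length := by
    intro m
    induction m with
    | nil =>
      intro _ z hz
      have : z = 1 := Subtype.ext (by rw [hz, List.prod_nil]; rfl)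
      rw [this, map_one, List.length_nil, pow_zero]
    | cons b m ih =>
      intro hm z hz
      have hb := hm b List.mem_cons_self
      let b' : HH D x := ⟨b, mem_HH_of hb⟩
      have h1 := ih (fun c hc => hm c (List.mem_cons_of_mem _ hc)) (b'⁻¹ * z) (by
        rw [Subgroup.coe_mul, Subgroup.coe_inv, hz, List.prod_cons]
        show b⁻¹ * (b * m.prod) = m.prod
        group)
      have h2 : z = b' * (b'⁻¹ * z) := by group
      rw [h2, map_mul, h1, key b' e0 hb he0, List.length_cons, pow_succ']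
  have h1 := hprod l hl z hz
  obtain ⟨k, hk⟩ := hev
  rw [hk, ← two_mul, pow_mul, pow_two, hsq, one_pow] at h1
  have h2 : z ∈ (Abelianization.of : HH D x →* Abelianization (HH D x)).ker := h1
  rwa [Abelianization.ker_of] at h2

theorem perfect_HH : commutator (HH D x) = ⊤ := by
  obtain ⟨l, hlen, hl, -, hp⟩ := exists_hyperoval F h hx
  have hxc : ∀ z : HH D x, (z : G) = x → z ∈ commutator (HH D x) := fun z hz =>
    mem_commutator_of_list F h hx l hl (by rw [hlen]; decide) z (by rw [hz, hp])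
  have FE := inherit_N6 F h hx
  have hU : IsU 6 (Eb D x) := Fischer480.Transport.isU
    (Fischer480.Transport.CIso.symm (cIso_Eb F.fd (thin_N6 h) hx)) (h.loc x hx)
  -- the quotient is perfect
  have hK : commutator (KK D x) = ⊤ := by
    obtain ⟨L, i1, i2, f, U⟩ := exists_um hU
    have R := rk_of_FGroup FE
    have hT := Cfsg.Agent.TSp.Basic.tset_of_fdata R.fd
    have hfin := U.fin
    obtain ⟨e, -⟩ := exists_equiv_psu FE.fd
      (SporadicStructure.FischerPrimitive.center_eq_bot FE.sol) (by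
        intro a ha b hb hab c hc hall
        rcases um_hyp U FE.fd subset_rfl (fun a ha b hb => hT.closed a ha b hb) (by norm_num)
          ha hb hab hc hall with h1 | h1 | h1
        · exact Or.inl h1
        · exact Or.inr (Or.inl h1)
        · right; right
          rw [h1, cj_eq_mul FE.fd ha]) U.card U.herm U.dim (by norm_num) f U.ne U.iso U.comm
      U.inj U.surj
    have hs : IsSimpleGroup (PSU 6 L 2) :=
      Cfsg.Agent.S0283.result (q := 2) (by rw [U.card]; norm_num) 6 (by norm_num) (by norm_num)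
    have hnt : Nontrivial (PSU 6 L 2) := hs.toNontrivial
    have hnt' : Nontrivial (KK D x) := e.toEquiv.nontrivial
    have hK : IsSimpleGroup (KK D x) := IsSimpleGroup.isSimpleGroup_of_surjective e.symm.toMonoidHom
      e.symm.surjective
    rcases hK.eq_bot_or_eq_top_of_normal (commutator (KK D x)) inferInstance with h1 | h1
    · exfalso
      have h2 : Group.IsSolvable (⊤ : Subgroup (KK D x)) := by
        have hs' : Group.IsSolvable (KK D x) := by
          refine ⟨1, ?_⟩
          rw [derivedSeries_one]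
          exact h1
        exact Group.isSolvable_of_surjective
          (f := (Subgroup.topEquiv.symm : KK D x ≃* (⊤ : Subgroup (KK D x))).toMonoidHom)
          (MulEquiv.surjective _)
      have h3 := FE.sol ⊤ inferInstance h2
      have h4 := hK.toNontrivial
      exact absurd h3 (by
        intro h5
        obtain ⟨a, b, hab⟩ := h4
        apply hab
        have ha : a ∈ (⊥ : Subgroup (KK D x)) := by rw [← h5]; trivial
        have hb : b ∈ (⊥ : Subgroup (KK D x)) := by rw [← h5]; trivial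
        rw [Subgroup.mem_bot.1 ha, Subgroup.mem_bot.1 hb])
    · exact h1
  rw [eq_top_iff]
  intro g _
  have h1 : (QuotientGroup.mk' (Subgroup.center (HH D x))) g ∈ commutator (KK D x) := by
    rw [hK]; trivial
  rw [commutator_def, ← Subgroup.map_top_of_surjective _
    (QuotientGroup.mk'_surjective (Subgroup.center (HH D x))), ← Subgroup.map_commutator,
    ← commutator_def] at h1
  obtain ⟨k, hk, hkg⟩ := h1
  have h2 : k⁻¹ * g ∈ Subgroup.center (HH D x) := by
    rw [← QuotientGroup.eq]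
    exact hkg
  have h3 : k⁻¹ * g ∈ commutator (HH D x) := by
    rcases (mem_center_iff F h hx).1 h2 with h3 | h3
    · have : k⁻¹ * g = 1 := Subtype.ext h3
      rw [this]; exact one_mem _
    · exact hxc _ h3
  have := mul_mem hk h3
  rwa [mul_inv_cancel_left] at this

theorem perfect_centralizer : commutator (Subgroup.centralizer ({x} : Set G)) = ⊤ := by
  have h1 := perfect_HH F h hx
  have h2 : ∀ H : Subgroup G, HH D x = H → commutator H = ⊤ := by
    rintro H rfl
    exact h1
  exact h2 _ (HH_eq F h hx)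

/-- The projection of the centralizer of `x`. -/
theorem exists_ext : ∃ (L : Type) (_ : Field L) (_ : Fintype L), Fintype.card L = 4 ∧
    ∃ π : Subgroup.centralizer ({x} : Set G) →* PSU 6 L 2, Ext π (zel x) := by
  have FE := inherit_N6 F h hx
  have hU : IsU 6 (Eb D x) := Fischer480.Transport.isU
    (Fischer480.Transport.CIso.symm (cIso_Eb F.fd (thin_N6 h) hx)) (h.loc x hx)
  obtain ⟨L, i1, i2, f, U⟩ := exists_um hU
  have R := rk_of_FGroup FE
  have hT := Cfsg.Agent.TSp.Basic.tset_of_fdata R.fd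
  have hfin := U.fin
  obtain ⟨e, -⟩ := exists_equiv_psu FE.fd
    (SporadicStructure.FischerPrimitive.center_eq_bot FE.sol) (by
      intro a ha b hb hab c hc hall
      rcases um_hyp U FE.fd subset_rfl (fun a ha b hb => hT.closed a ha b hb) (by norm_num)
        ha hb hab hc hall with h1 | h1 | h1
      · exact Or.inl h1
      · exact Or.inr (Or.inl h1)
      · right; right
        rw [h1, cj_eq_mul FE.fd ha]) U.card U.herm U.dim (by norm_num) f U.ne U.iso U.comm
    U.inj U.surj
  refine ⟨L, i1, i2, U.card, ?_⟩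
  have hE := HH_eq F h hx
  let π₀ : HH D x →* PSU 6 L 2 :=
    e.toMonoidHom.comp (QuotientGroup.mk' (Subgroup.center (HH D x)))
  let c : Subgroup.centralizer ({x} : Set G) ≃* HH D x := MulEquiv.subgroupCongr hE.symm
  refine ⟨π₀.comp c.toMonoidHom, ?_, ?_, ?_, ?_, ?_⟩
  · exact (e.surjective.comp (QuotientGroup.mk'_surjective _)).comp c.surjective
  · apply Subtype.ext
    exact F.fd.sq x hx
  · intro h1
    exact F.fd.ne_one x hx (congrArg Subtype.val h1)
  · intro y
    have h1 : (π₀.comp c.toMonoidHom) y = 1 ↔ c y ∈ Subgroup.center (HH D x) := by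
      rw [← QuotientGroup.eq_one_iff]
      show e _ = 1 ↔ _
      exact map_eq_one_iff e e.injective
    rw [h1, mem_center_iff F h hx]
    constructor
    · rintro (h2 | h2)
      · left; exact Subtype.ext h2
      · right; exact Subtype.ext h2
    · rintro (rfl | rfl)
      · left; rfl
      · right; rfl
  · intro y
    apply Subtype.ext
    exact Subgroup.mem_centralizer_singleton_iff.1 y.2

theorem conj_eq : D = conjugatesOf x := by
  ext y
  constructor
  · intro hy
    obtain ⟨g, hg⟩ := F.fd.single x hx y hy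
    exact isConj_iff.2 ⟨g, hg⟩
  · intro hy
    obtain ⟨g, rfl⟩ := isConj_iff.1 (show IsConj x y from hy)
    exact F.fd.conj g x hx

/-- The charts. -/
theorem exists_base : ∃ (L : Type) (_ : Field L) (_ : Fintype L) (hL : Fintype.card L = 2 ^ 2),
    Cfsg.Agent.R01.Loc.Loc hL D ∧ Cfsg.Agent.R01.IdentConfig.Base hL D := by
  obtain ⟨L, i1, i2, hL, π, hπ⟩ := exists_ext F h hx
  have hL' : Fintype.card L = 2 ^ 2 := by rw [hL]; norm_num
  refine ⟨L, i1, i2, hL', ?_⟩
  obtain ⟨lift, hlab⟩ := Cfsg.Agent.R01.Label.exists_lab hL' hπ (perfect_centralizer F h hx)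
    (ε := zel x) (Or.inr rfl)
  obtain ⟨y, hy, hyx, hc⟩ := (rk_of_FGroup F).exPerp x hx
  obtain ⟨g, hg⟩ := F.fd.single x hx y hy
  have hfus := Cfsg.Agent.R01.Assembly2.fusionSt G x L hL' π lift hlab ⟨g, by
    rw [hg]; exact ⟨Subgroup.mem_centralizer_singleton_iff.2 hc.symm.eq, hyx⟩⟩
  have hloc : Cfsg.Agent.R01.Loc.Loc hL' (conjugatesOf x) :=
    Cfsg.Agent.R01.Loc.loc_of_locAt ⟨π, lift, hlab, hfus⟩
  rw [← conj_eq F h hx] at hloc
  refine ⟨hloc, Cfsg.Agent.R01.IdentMain.charts_of_loc hloc, F.fd.sq,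
    fun x hx g => F.fd.conj g x hx, ?_⟩
  intro a ha b hb
  by_cases hab : Commute a b
  · exact Or.inl hab.eq
  · right
    have h1 := F.fd.braid a ha b hb hab
    calc (a * b) ^ 3 = (a * b * a) * (b * a * b) := by
          rw [pow_succ, pow_two]; simp only [mul_assoc]
      _ = (a * b * a) * (a * b * a) := by rw [← h1]
      _ = a * b * (a * a) * b * a := by simp only [mul_assoc]
      _ = 1 := by rw [F.fd.sq a ha, mul_one, mul_assoc a b b, F.fd.sq b hb, mul_one, F.fd.sq a ha]

end Local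

open Cfsg.Agent.R01.IdentPres Cfsg.Agent.R01.IdentConfig in
/-- Every configuration gives an isomorphism. -/
theorem exists_iso_of_config {L : Type} [Field L] [Fintype L] {hL : Fintype.card L = 2 ^ 2}
    (hB : Base hL D) (hcard : Nat.card G = 64561751654400) {x : ℕ → G} (c : Config D x) :
    ∃ e : Cfsg.Spor.Fi22 ≃* G, ∀ g : Cfsg.Spor.Fi22.Gen, e (PresentedGroup.of g) = x (num g) := by
  have hlt : ∀ g : Cfsg.Spor.Fi22.Gen, num g < 9 := by intro g; cases g <;> decide
  have h3 : ∀ g g' : Cfsg.Spor.Fi22.Gen, Cfsg.Spor.coxLabel Cfsg.Spor.Fi22.edges g g' = 3 →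
      num g ≠ num g' ∧ Cfsg.Agent.R01.IdentWord.adj E (num g) (num g') = true := by
    intro g g'; cases g <;> cases g' <;> decide
  have h2' : ∀ g g' : Cfsg.Spor.Fi22.Gen, Cfsg.Spor.coxLabel Cfsg.Spor.Fi22.edges g g' = 2 →
      num g ≠ num g' ∧ Cfsg.Agent.R01.IdentWord.adj E (num g) (num g') = false := by
    intro g g'; cases g <;> cases g' <;> decide
  obtain ⟨φ, hφ⟩ := exists_hom (fun g => x (num g)) (fun g => hB.sq _ (c.mem _ (hlt g)))
    (fun g g' h => (hB.three _ (c.mem _ (hlt g)) _ (c.mem _ (hlt g'))).resolve_left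
      (c.nadj _ (hlt g) _ (hlt g') (h3 g g' h).1 (h3 g g' h).2))
    (fun g g' h => c.comm _ (hlt g) _ (hlt g') (h2' g g' h).1 (h2' g g' h).2)
    (Cfsg.Agent.R01.IdentMain.Config.spider hB c) (c.pow_nine' hB) (c.pow_nine hB)
  obtain ⟨hsimple, hc⟩ := Cfsg.Agent.S1696.result
  have hfin : Finite G := Nat.finite_of_card_ne_zero (by rw [hcard]; norm_num)
  have hinj : Function.Injective φ := by
    rw [← MonoidHom.ker_eq_bot_iff]
    rcases hsimple.eq_bot_or_eq_top_of_normal φ.ker inferInstance with h | h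
    · exact h
    · exfalso
      have h1 : (PresentedGroup.of Cfsg.Spor.Fi22.Gen.a : Cfsg.Spor.Fi22) ∈ φ.ker := by
        rw [h]; exact Subgroup.mem_top _
      have h2 : φ (PresentedGroup.of Cfsg.Spor.Fi22.Gen.a) = 1 := h1
      rw [hφ] at h2
      have h0 : x 0 = 1 := h2
      apply c.nadj 0 (by norm_num) 1 (by norm_num) (by norm_num) (by decide)
      rw [h0, one_mul, mul_one]
  have hbij : Function.Bijective φ :=
    (Nat.bijective_iff_injective_and_card _).2 ⟨hinj, by rw [hcard]; exact hc⟩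
  exact ⟨MulEquiv.ofBijective φ hbij, hφ⟩

/-- an isomorphism from `Fi22` mapping the generators into `D` maps their class onto `D` -/
theorem image_T (hsing : ∀ x ∈ D, ∀ y ∈ D, ∃ g : G, g * x * g⁻¹ = y)
    (hconj : ∀ g : G, ∀ x ∈ D, g * x * g⁻¹ ∈ D) (e : Cfsg.Spor.Fi22 ≃* G)
    (he : ∀ g : Cfsg.Spor.Fi22.Gen, e (PresentedGroup.of g) ∈ D) :
    e '' Cfsg.Agent.R01.Fi22Facts.T = D := by
  have ha := he Cfsg.Spor.Fi22.Gen.a
  ext y
  constructor
  · rintro ⟨t, ht, rfl⟩
    obtain ⟨g, rfl⟩ := isConj_iff.1 (show IsConj (PresentedGroup.of Cfsg.Spor.Fi22.Gen.a) t from ht)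
    rw [map_mul, map_mul, map_inv]
    exact hconj _ _ ha
  · intro hy
    obtain ⟨g, rfl⟩ := hsing _ ha y hy
    refine ⟨e.symm g * PresentedGroup.of Cfsg.Spor.Fi22.Gen.a * (e.symm g)⁻¹, ?_, ?_⟩
    · exact isConj_iff.2 ⟨_, rfl⟩
    · rw [map_mul, map_mul, map_inv, e.apply_symm_apply]

/-- **Fischer groups of type `T6`.** There is an isomorphism from the presented group `Fi22` which maps the
generators into `D`. -/
theorem exists_iso [Finite G] (F : Cfsg.Agent.Fischer480.Defs.FGroup D) (h : IsT6 D) :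
    ∃ e : Cfsg.Spor.Fi22 ≃* G, (∀ g : Cfsg.Spor.Fi22.Gen, e (PresentedGroup.of g) ∈ D) ∧
      e '' Cfsg.Agent.R01.Fi22Facts.T = D := by
  have F' := inh F
  have h' := n6_of_isT6 h
  obtain ⟨x, hx⟩ := F'.fd.nonempty
  obtain ⟨L, i1, i2, hL, -, hB⟩ := exists_base F' h' hx
  obtain ⟨y, c⟩ := Cfsg.Agent.R01.IdentMain.exists_config hB ⟨x, hx⟩
  obtain ⟨e, he⟩ := exists_iso_of_config hB (card_T6 F h) c
  have hlt : ∀ g : Cfsg.Spor.Fi22.Gen, Cfsg.Agent.R01.IdentPres.num g < 9 := by
    intro g; cases g <;> decide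
  have he' : ∀ g : Cfsg.Spor.Fi22.Gen, e (PresentedGroup.of g) ∈ D := fun g => by
    rw [he]; exact c.mem _ (hlt g)
  exact ⟨e, he', image_T F'.fd.single F'.fd.conj e he'⟩

end Cfsg.Agent.H845.T6Iso
end
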