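import Cfsg.Agent.H661.SporCount_m3
import Cfsg.Agent.H603.SporElim
import Cfsg.Agent.CTwoTab.Ru
import Cfsg.Agent.EvenType.ChevTwoTits
import Cfsg.Agent.H403.TitsSixteen
import Cfsg.Agent.Lib.Cores
import Cfsg.Agent.H87.TitsData
import Cfsg.Agent.H995.CopLarge
import Cfsg.Agent.Prune
set_option linter.all false

-- part: H661/SporRuTits
section
set_option linter.all false
open scoped Cfsg.Agent.FastGrp

/-!
# `Ru` (a real element of order 7 in `Sz(8)`) and the Tits group (a real element of order 13)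
-/

set_option autoImplicit false

namespace Cfsg.Agent.H661.Spor

open Subgroup H722.RealP Cfsg.Agent.NotCT

theorem ru {S : Type*} [Group S] (h : Cfsg.Spor.IsoRu S) : P1 S := by
  have hc := Orders.ru h
  have hfin : Finite S := by
    apply Nat.finite_of_card_ne_zero
    rw [hc]
    norm_num
  obtain ⟨C, hsz, hL⟩ := Cfsg.Agent.CTwoTab.Ru.exists_core_sz h
  have hs : IsSimpleGroup ↥C.L := Cfsg.Agent.CTwoTab.Ru.simple_sz hsz
  have h7 : HasReal 7 ↥C.L := by
    refine hasReal_coprime (k := 1) (m := 3) (by norm_num) (by norm_num) ?_ ?_ ?_ ?_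
    · rw [hL]; norm_num
    · rw [hL]; norm_num
    · rw [hL]; norm_num
    · rw [hL]; norm_num
  exact P1.of_hasReal (r := 7) (by norm_num) (by norm_num) (by rw [hc]; norm_num) h7.of_subgroup

/-- In a group of characteristic 2 type with Sylow 2-subgroups of order at most `2 ^ 11`, elements of order 13
do not commute with involutions. -/
theorem not_commute_two {X : Type*} [Group X] [Finite X] (hX : Cfsg.IsCharacteristicTwoType X)
    (h12 : ¬ 2 ^ 12 ∣ Nat.card X) {x t : X} (hx : orderOf x = 13) (ht : orderOf t = 2)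
    (hxt : x * t = t * x) : False := by
  have : Fact (Nat.Prime 2) := ⟨Nat.prime_two⟩
  let T : Subgroup X := zpowers t
  have hT : IsPGroup 2 T := IsPGroup.of_card (n := 1) (by rw [Nat.card_zpowers, ht, pow_one])
  have hT1 : T ≠ ⊥ := by
    intro h
    rw [zpowers_eq_bot] at h
    rw [h, orderOf_one] at ht
    norm_num at ht
  have hloc := hX.2 T hT hT1
  have hxN : x ∈ normalizer (T : Set X) := by
    apply Subgroup.centralizer_le_normalizer
    rw [mem_centralizer_iff]
    rintro _ ⟨k, rfl⟩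
    exact ((Commute.zpow_right (show Commute x t from hxt) k).eq).symm
  let N := normalizer (T : Set X)
  let O : Subgroup N := Cfsg.pCore 2 N
  have hOp : IsPGroup 2 O := Cfsg.Agent.Lib.Cores.pCore_isPGroup 2
  obtain ⟨m, hm⟩ := (IsPGroup.iff_card).1 hOp
  have hm11 : m ≤ 11 := by
    by_contra hlt
    apply h12
    have h1 : 2 ^ 12 ∣ Nat.card O := hm ▸ pow_dvd_pow 2 (by omega)
    exact h1.trans ((Subgroup.card_subgroup_dvd_card O).trans (Subgroup.card_subgroup_dvd_card N))
  have hx' : orderOf (⟨x, hxN⟩ : N) = 13 := by rw [Subgroup.orderOf_mk, hx]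
  have hcomm := commute_of_small hm hm11 hx'
  have hxC : (⟨x, hxN⟩ : N) ∈ centralizer (O : Set N) := by
    rw [mem_centralizer_iff]
    intro o ho
    exact (hcomm o ho).symm
  have hxO : (⟨x, hxN⟩ : N) ∈ O := hloc hxC
  obtain ⟨k, hk⟩ := (IsPGroup.iff_orderOf.1 hOp) ⟨_, hxO⟩
  rw [← Subgroup.orderOf_coe] at hk
  rw [show ((⟨⟨x, hxN⟩, hxO⟩ : O) : N) = ⟨x, hxN⟩ from rfl, hx'] at hk
  have h13 : 13 ∣ 2 ^ k := hk ▸ dvd_refl _
  have := (Nat.prime_dvd_prime_iff_eq (by norm_num : Nat.Prime 13) Nat.prime_two).1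
    ((by norm_num : Nat.Prime 13).dvd_of_dvd_pow h13)
  norm_num at this

theorem hasReal_tits {S : Type*} [Group S] (h : Cfsg.Lie.IsoTits S) : HasReal 13 S := by
  have hc := Orders.tits h
  have hfin : Finite S := by
    apply Nat.finite_of_card_ne_zero
    rw [hc]
    norm_num
  have hout := Cfsg.Agent.CpAutTits.Row.out h
  have h2 := Cfsg.Agent.EvenType.ChevTwoTits.charTwo h
  refine hasReal_count (by norm_num) (by rw [hc]; norm_num) (by rw [hc]; norm_num) ?_
  intro P c e n hP hcc he hed hn hprod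
  -- a generator of `P`
  have : Fact (Nat.Prime 13) := ⟨by norm_num⟩
  obtain ⟨x, hx⟩ := exists_prime_orderOf_dvd_card' (G := P) 13 (by rw [hP])
  have hxo : orderOf (x : S) = 13 := by rw [Subgroup.orderOf_coe, hx]
  -- no prime other than 3 divides `c`
  have hno : ∀ q : ℕ, q.Prime → q ∣ c → ∃ y : S, orderOf y = q ∧ (x : S) * y = y * x := by
    intro q hq hqc
    have : Fact q.Prime := ⟨hq⟩
    obtain ⟨y, hy⟩ := exists_prime_orderOf_dvd_card' (G := centralizer ((P : Subgroup S) : Set S)) q
      (hcc ▸ hqc.mul_left 13)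
    exact ⟨y, by rw [Subgroup.orderOf_coe, hy], mem_centralizer_iff.1 y.2 x x.2⟩
  have hc2 : ¬ 2 ∣ c := by
    intro h2c
    obtain ⟨y, hy, hxy⟩ := hno 2 Nat.prime_two h2c
    exact not_commute_two h2 (by rw [hc]; norm_num) hxo hy hxy
  have hc5 : ¬ 5 ∣ c := by
    intro h5c
    obtain ⟨y, hy, hxy⟩ := hno 5 (by norm_num) h5c
    have h50 := hout.cent y hy
    have hmem : (x : S) ∈ centralizer ({y} : Set S) := by
      rw [mem_centralizer_singleton_iff]; exact hxy
    have := orderOf_dvd_natCard (⟨(x : S), hmem⟩ : centralizer ({y} : Set S))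
    rw [Subgroup.orderOf_mk, hxo, h50] at this
    norm_num at this
  rw [hc] at hprod
  have hprod' : n * (e * c) = 1382400 := by
    have : 13 * (n * (e * c)) = 13 * 1382400 := by rw [show 13 * (n * (e * c)) = n * (e * (13 * c)) by ring, hprod]
    exact Nat.eq_of_mul_eq_mul_left (by norm_num) this
  have hc27 : c ∣ 27 := by
    have h1 : c ∣ 2 ^ 11 * (5 ^ 2 * 27) := by
      refine Dvd.intro (n * e) ?_
      rw [show 2 ^ 11 * (5 ^ 2 * 27) = 1382400 by norm_num, ← hprod']
      ring
    have h2' : c.Coprime (2 ^ 11) := ((Nat.Prime.coprime_iff_not_dvd Nat.prime_two).2 hc2).symm.pow_right 11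
    have h5' : c.Coprime (5 ^ 2) :=
      ((Nat.Prime.coprime_iff_not_dvd (by norm_num : Nat.Prime 5)).2 hc5).symm.pow_right 2
    exact h5'.dvd_of_dvd_mul_left (h2'.dvd_of_dvd_mul_left h1)
  have hc' : c = 1 ∨ c = 3 ∨ c = 9 ∨ c = 27 := by
    have : c ≤ 27 := Nat.le_of_dvd (by norm_num) hc27
    interval_cases c <;> revert hc27 <;> decide
  have he' : e = 1 ∨ e = 3 := by
    have : e ≤ 12 := Nat.le_of_dvd (by norm_num) hed
    interval_cases e <;> revert hed he <;> decide
  have hn' : n % 13 = 1 := hn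
  rcases hc' with rfl | rfl | rfl | rfl <;> rcases he' with rfl | rfl <;> omega

theorem tits {S : Type*} [Group S] (h : Cfsg.Lie.IsoTits S) : P1 S := by
  have hc := Orders.tits h
  exact P1.of_hasReal (r := 13) (by norm_num) (by norm_num) (by rw [hc]; norm_num) (hasReal_tits h)

end Cfsg.Agent.H661.Spor
end

-- part: H845/CopTits
section
set_option linter.all false
open scoped Cfsg.Agent.FastGrp

/-!
# The Tits group: elements of order 13 are self-centralizing; no coprime class sizes (for S4158)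
-/

set_option autoImplicit false
set_option linter.style.haveILetI false

namespace Cfsg.Agent.H845.CopTits

open Subgroup Cfsg.Agent.H87.TitsAbs

/-- An element of order 13 of the Tits group is self-centralizing. -/
theorem card_cent_x {S : Type*} [Group S] [Finite S] (h : Cfsg.Lie.IsoTits S) (D : Dat S) :
    Nat.card (centralizer ({D.x} : Set S)) = 13 := by
  have hc : Nat.card S = 17971200 := Cfsg.Agent.NotCT.Orders.tits h
  have hout := Cfsg.Agent.CpAutTits.Row.out h
  have h2 := Cfsg.Agent.EvenType.ChevTwoTits.charTwo h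
  haveI : Fact (Nat.Prime 13) := ⟨by norm_num⟩
  have hx : orderOf D.x = 13 := orderOf_eq_prime D.x13 D.x1
  have hZ : Nat.card (zpowers D.x) = 13 := by rw [Nat.card_zpowers, hx]
  obtain ⟨P, hxP⟩ := (IsPGroup.of_card (G := zpowers D.x) (p := 13) (n := 1) (by rw [pow_one, hZ])).exists_le_sylow
  have hPc : Nat.card P = 13 :=
    Cfsg.Agent.H661.Spor.card_sylow_eq P (by rw [hc]; norm_num) (by rw [hc]; norm_num)
  have hP : (P : Subgroup S) = zpowers D.x := (eq_of_le_of_card_ge hxP (by rw [hPc, hZ])).symm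
  set C := centralizer ((P : Subgroup S) : Set S) with hC
  set N := normalizer ((P : Subgroup S) : Set S) with hN
  have hCx : C = centralizer ({D.x} : Set S) := by
    rw [hC, hP]
    ext g
    rw [mem_centralizer_singleton_iff, mem_centralizer_iff]
    constructor
    · intro hg
      exact (hg D.x (mem_zpowers _)).symm
    · rintro hg _ ⟨k, rfl⟩
      exact ((Commute.zpow_right (show Commute g D.x from hg) k).eq).symm
  have hCN : C ≤ N := Subgroup.centralizer_le_normalizer _
  have he12 : C.relIndex N ∣ 12 := Cfsg.Agent.J2Type.SylowSeven.relIndex_dvd_of_card_prime (P : Subgroup S)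
    (by norm_num) hPc
  have hn := card_sylow_modEq_one 13 S
  have hni : Nat.card (Sylow 13 S) = N.index := Sylow.card_eq_index_normalizer P
  have hCN2 : Nat.card C * C.relIndex N = Nat.card N := Cfsg.Agent.J2Type.SylowSeven.card_mul_relIndex' hCN
  -- `t` normalizes
  have htx := D.txt
  have ht3 : 3 ∣ C.relIndex N := by
    have htN : D.t ∈ N := by
      rw [hN, hP]
      haveI := Fintype.ofFinite (zpowers D.x)
      haveI : Fintype (zpowers D.x : Set S) := ‹Fintype (zpowers D.x)›
      apply mem_normalizer_fintype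
      rintro _ ⟨k, rfl⟩
      refine ⟨3 * k, ?_⟩
      simp only
      rw [← conj_zpow, htx, ← zpow_natCast, ← zpow_mul]
      norm_num
    have htC : D.t ∉ C := by
      intro hm
      rw [hCx, mem_centralizer_singleton_iff] at hm
      rw [hm, mul_inv_cancel_right] at htx
      have h5 : D.x ^ 2 = 1 := by
        have : D.x ^ 3 = D.x ^ 2 * D.x := pow_succ _ _
        rw [this] at htx
        exact mul_eq_right.1 htx.symm
      have h6 : orderOf D.x ∣ 2 := orderOf_dvd_of_pow_eq_one h5
      rw [hx] at h6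
      norm_num at h6
    have hnor : (C.subgroupOf N).Normal := by
      have : C.subgroupOf N = (normalizerMonoidHom (P : Subgroup S)).ker := by
        rw [normalizerMonoidHom_ker]
      rw [this]
      exact MonoidHom.normal_ker _
    have h7 : orderOf (QuotientGroup.mk' (C.subgroupOf N) ⟨D.t, htN⟩) = 3 := by
      haveI : Fact (Nat.Prime 3) := ⟨by norm_num⟩
      apply orderOf_eq_prime
      · rw [← map_pow]
        have : (⟨D.t, htN⟩ : N) ^ 3 = 1 := Subtype.ext D.t3
        rw [this, map_one]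
      · intro h8
        have h9 := (QuotientGroup.eq_one_iff (N := C.subgroupOf N) (⟨D.t, htN⟩ : N)).1 h8
        exact htC (mem_subgroupOf.1 h9)
    have h8 := orderOf_dvd_natCard (QuotientGroup.mk' (C.subgroupOf N) ⟨D.t, htN⟩)
    rw [h7] at h8
    exact h8
  -- the order of `C`
  have hPC : (P : Subgroup S) ≤ C := by
    rw [hCx, hP, zpowers_le, mem_centralizer_singleton_iff]
  obtain ⟨c, hcc⟩ : 13 ∣ Nat.card C := by
    have := Subgroup.card_dvd_of_le hPC
    rwa [hPc] at this
  have hNi := N.card_mul_index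
  rw [← hCN2, ← hni, hcc, hc] at hNi
  set e := C.relIndex N
  set n := Nat.card (Sylow 13 S)
  have hprod : c * e * n = 1382400 := by
    have h9 : 13 * (c * e * n) = 13 * 1382400 := by rw [← show (17971200 : ℕ) = 13 * 1382400 from rfl, ← hNi]; ring
    exact Nat.eq_of_mul_eq_mul_left (by norm_num) h9
  have hno : ∀ q : ℕ, q.Prime → q ∣ c → ∃ y : S, orderOf y = q ∧ D.x * y = y * D.x := by
    intro q hq hqc
    haveI : Fact q.Prime := ⟨hq⟩
    obtain ⟨y, hy⟩ := exists_prime_orderOf_dvd_card' (G := C) q (hcc ▸ hqc.mul_left 13)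
    refine ⟨y, by rw [Subgroup.orderOf_coe, hy], ?_⟩
    have h9 : (y : S) ∈ centralizer ({D.x} : Set S) := hCx ▸ y.2
    rw [mem_centralizer_singleton_iff] at h9
    exact h9.symm
  have hc2 : ¬ 2 ∣ c := by
    intro h2c
    obtain ⟨y, hy, hxy⟩ := hno 2 Nat.prime_two h2c
    exact Cfsg.Agent.H661.Spor.not_commute_two h2 (by rw [hc]; norm_num) hx hy hxy
  have hc5 : ¬ 5 ∣ c := by
    intro h5c
    obtain ⟨y, hy, hxy⟩ := hno 5 (by norm_num) h5c
    have h50 := hout.cent y hy
    have hmem : D.x ∈ centralizer ({y} : Set S) := by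
      rw [mem_centralizer_singleton_iff]; exact hxy
    have := orderOf_dvd_natCard (⟨D.x, hmem⟩ : centralizer ({y} : Set S))
    rw [Subgroup.orderOf_mk, hx, h50] at this
    norm_num at this
  have hc27 : c ∣ 27 := by
    have h1 : c ∣ 2 ^ 11 * (5 ^ 2 * 27) := by
      refine Dvd.intro (e * n) ?_
      rw [show 2 ^ 11 * (5 ^ 2 * 27) = 1382400 by norm_num, ← hprod]
      ring
    have h2' : c.Coprime (2 ^ 11) := ((Nat.Prime.coprime_iff_not_dvd Nat.prime_two).2 hc2).symm.pow_right 11
    have h5' : c.Coprime (5 ^ 2) :=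
      ((Nat.Prime.coprime_iff_not_dvd (by norm_num : Nat.Prime 5)).2 hc5).symm.pow_right 2
    exact h5'.dvd_of_dvd_mul_left (h2'.dvd_of_dvd_mul_left h1)
  have hc27' : ¬ 27 ∣ c := by
    rintro ⟨c', rfl⟩
    obtain ⟨e', he'⟩ := ht3
    rw [he'] at hprod
    have : 81 ∣ 1382400 := Dvd.intro (c' * e' * n) (by rw [← hprod]; ring)
    norm_num at this
  have hc' : c = 1 ∨ c = 3 ∨ c = 9 := by
    have : c ≤ 27 := Nat.le_of_dvd (by norm_num) hc27
    interval_cases c <;> revert hc27 hc27' <;> decide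
  have he' : e = 3 ∨ e = 6 ∨ e = 12 := by
    have : e ≤ 12 := Nat.le_of_dvd (by norm_num) he12
    interval_cases e <;> revert he12 ht3 <;> decide
  have hn' : n % 13 = 1 := hn
  have h1 : c = 1 := by
    rcases hc' with h | h | h <;> rcases he' with h' | h' | h' <;> rw [h, h'] at hprod <;> omega
  rw [← hCx, hcc, h1]

theorem noCop_of_dat {S : Type*} [Group S] [Finite S] [IsSimpleGroup S] (h : Cfsg.Lie.IsoTits S) (D : Dat S) :
    Cfsg.Agent.H530.Cop.NoCop S := by
  have hc := card_cent_x h D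
  have hx : orderOf D.x = 13 := by
    haveI : Fact (Nat.Prime 13) := ⟨by norm_num⟩
    exact orderOf_eq_prime D.x13 D.x1
  have hna : ¬ IsMulCommutative S := by
    intro hcm
    have h1 : centralizer ({D.x} : Set S) = ⊤ := by
      rw [eq_top_iff]
      intro g _
      rw [mem_centralizer_singleton_iff]
      exact hcm.is_comm.comm _ _
    rw [h1, card_top, Cfsg.Agent.NotCT.Orders.tits h] at hc
    norm_num at hc
  exact Cfsg.Agent.H530.Cop.noCop_of_self hna (z := D.x) (by rw [hx]; norm_num) (by rw [hx]; exact hc)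

theorem aux {X : Type*} [Group X] (K : Subgroup X) {G : Type*} [Group G] (e : Nonempty (G ≃* commutator K))
    (h : Cfsg.Agent.H530.Cop.NoCop (commutator K)) : Cfsg.Agent.H530.Cop.NoCop G := by
  obtain ⟨e⟩ := e
  exact Cfsg.Agent.H530.Cop.NoCop.congr e.symm h

theorem noCop_titsGroup : Cfsg.Agent.H530.Cop.NoCop Cfsg.Lie.TitsGroup := by
  haveI : Finite Cfsg.Lie.TitsGroup := by
    apply Nat.finite_of_card_ne_zero
    rw [Cfsg.Agent.H87.TitsData.card_tits]
    norm_num
  haveI : IsSimpleGroup Cfsg.Lie.TitsGroup := Cfsg.Agent.S1074.result.2.1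
  obtain ⟨D⟩ := Cfsg.Agent.H87.TitsData.dat_tits
  exact noCop_of_dat ⟨MulEquiv.refl _⟩ D

/-- **No coprime class sizes in the Tits group.** -/
theorem noCop_tits {G : Type*} [Group G] [Finite G] (h : Cfsg.Lie.IsoTits G) : Cfsg.Agent.H530.Cop.NoCop G :=
  aux _ h noCop_titsGroup

end Cfsg.Agent.H845.CopTits
end
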